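import Groth.Agent.DEquiv.K237.GenEpi
import Groth.Agent.Dcoh.DualFLF
import Groth.Agent.Dcoh.MonPull3_292
import Groth.Agent.PerfB.ResolQC
import Groth.Agent.Dcoh.FinLocFree
import Groth.Agent.Ega1.TensorRestrict
import Groth.Agent.Sga67.LocBasisOps
import Groth.Agent.FormalA.PullbackQC

/-!
# Box products of finite locally free modules cover the modules of finite type

`X`, `Y` quasi-compact and quasi-separated with the resolution property over an affine scheme `S`: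
every quasi-coherent module of finite type on `X ×_S Y` is a quotient of `pr₁^*E ⊗ pr₂^*G` with
`E`, `G` finite locally free.
-/

set_option autoImplicit false
universe u

open CategoryTheory CategoryTheory.Limits AlgebraicGeometry Opposite TopologicalSpace MonoidalCategory

namespace K237.BoxGen

open Groth.Agent Groth.Agent.PerfC.ResolAffine
open scoped Groth.Agent.Dcoh.MonCat Groth.Agent.Dcoh.MonPull

attribute [local instance] Dcoh.MonRes290.restrictMonoidal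

/-- On a scheme with the resolution property, finite locally free modules detect morphisms out of
quasi-coherent modules. -/
theorem eq_zero_of_flf {X : Scheme.{u}} [CompactSpace X] [QuasiSeparatedSpace X]
    (hX : PerfAux.HasResolutionProperty X) {M N : X.Modules} (hM : Coh.IsQCoh M) (φ : M ⟶ N)
    (h : ∀ (E : X.Modules), FlatMod.IsFinLocFree E → ∀ a : E ⟶ M, a ≫ φ = 0) : φ = 0 := by
  refine FormalB.ModPowAff2.eq_zero_of_affine_cover hM _ fun x => ?_
  obtain ⟨V, hV, hx, -⟩ := exists_isAffineOpen_mem_and_subset (U := (⊤ : X.Opens)) (x := x) trivial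
  refine ⟨V, hx, hV, fun m => ?_⟩
  obtain ⟨N', ψ, hN', t, rfl⟩ := PerfC.FTExt.exists_isFP_section M hM hV.isCompact m
  have hNq := Models2.FPCoh.isQCoh_of_isFP hN'
  obtain ⟨E, π, hE, hπ⟩ := hX N' hNq (Models2.FPCoh.isFT_of_isFP hN')
  obtain ⟨e, rfl⟩ := CohqB.QC5.app_surjective_of_epi π
    (PerfA.QCohEpi.isQCoh_of_isFinLocFree hE) hNq hV t
  have h1 : (π ≫ ψ) ≫ φ = 0 := h E hE (π ≫ ψ)
  have h2 : ((π ≫ ψ) ≫ φ).app V e = 0 := by rw [h1]; rfl
  exact h2

section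

variable {X Y S : Scheme.{u}} (f : X ⟶ S) (g : Y ⟶ S)

/-- The projection `X ×_S V ⟶ X` is affine for `V` affine, `S` affine. -/
theorem isAffineHom_fst [IsAffine S] {V : Y.Opens} (hV : IsAffineOpen V) :
    IsAffineHom ((pullback.snd f g ⁻¹ᵁ V).ι ≫ pullback.fst f g) := by
  have h1 := isPullback_morphismRestrict (pullback.snd f g) V
  have h3 := h1.paste_vert (IsPullback.of_hasPullback f g).flip
  have : IsAffine V.toScheme := hV
  have h4 : IsAffineHom (V.ι ≫ g) := inferInstance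
  exact MorphismProperty.of_isPullback h3 h4

end

section

variable {X Z : Scheme.{u}} (p : Z ⟶ X) {W : Z.Opens}

/-- The adjunction between `M ↦ p^*M|_W` and `N ↦ p_* j_* N`, `j : W ⟶ Z`. -/
noncomputable def adj : Scheme.Modules.pullback p ⋙ Scheme.Modules.restrictFunctor W.ι ⊣
    Scheme.Modules.pushforward W.ι ⋙ Scheme.Modules.pushforward p :=
  (Scheme.Modules.pullbackPushforwardAdjunction p).comp (Scheme.Modules.restrictAdjunction W.ι)

/-- A morphism `c : A ⟶ B` of modules on `W` composing to zero with `h`, via duality. -/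
theorem comp_eq_zero_of_pairing {W : Scheme.{u}} {A A' B C : W.Modules} [ExactPairing A' A]
    (h : B ⟶ C) (h0 : ∀ d : 𝟙_ W.Modules ⟶ A' ⊗ B, d ≫ A' ◁ h = 0) (c : A ⟶ B) : c ≫ h = 0 := by
  have h1 := h0 (tensorLeftHomEquiv _ A' A _ ((ρ_ A).hom ≫ c))
  rw [← tensorLeftHomEquiv_naturality] at h1
  have h2 : ((ρ_ A).hom ≫ c) ≫ h = 0 := by
    apply (tensorLeftHomEquiv _ A' A _).injective
    rw [h1]
    simp [tensorLeftHomEquiv]
  rw [Category.assoc] at h2
  rwa [← cancel_epi (ρ_ A).hom, comp_zero]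

/-- A morphism which is zero on the sections over `W` kills the sections of the restriction to `W`. -/
theorem comp_restrict_eq_zero {Z : Scheme.{u}} {M N : Z.Modules} (ψ : M ⟶ N) (W : Z.Opens)
    (h : ∀ m : Γ(M, W), ψ.app W m = 0)
    (d : Coh.structureModule (W : Scheme.{u}) ⟶ (Scheme.Modules.restrictFunctor W.ι).obj M) :
    d ≫ (Scheme.Modules.restrictFunctor W.ι).map ψ = 0 := by
  have hW : W.ι ''ᵁ ⊤ = W := W.ι_image_top
  have h' : ∀ m : Γ(M, W.ι ''ᵁ ⊤), ψ.app (W.ι ''ᵁ ⊤) m = 0 := by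
    rw [hW]
    exact h
  refine Groth.Agent.Fdesc.LocGen.hom_ext_sec ?_
  rw [Groth.Agent.Fdesc.LocGen.sec_comp]
  exact h' _

end

section Gen

variable {X Y S : Scheme.{u}} (f : X ⟶ S) (g : Y ⟶ S)

/-- The box product `pr₁^* E ⊗ pr₂^* G`. -/
noncomputable abbrev box (E : X.Modules) (G : Y.Modules) : (pullback f g).Modules :=
  CohB1.tensorMod ((Scheme.Modules.pullback (pullback.fst f g)).obj E)
    ((Scheme.Modules.pullback (pullback.snd f g)).obj G)

theorem step1 [CompactSpace Y] [QuasiSeparatedSpace Y] (hY : PerfAux.HasResolutionProperty Y)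
    [QuasiCompact f] [QuasiSeparated f]
    {F H : (pullback f g).Modules} (hF : Coh.IsQCoh F) (h : F ⟶ H)
    (h0 : ∀ (E : X.Modules) (G : Y.Modules), FlatMod.IsFinLocFree E → FlatMod.IsFinLocFree G →
      ∀ φ : box f g E G ⟶ F, φ ≫ h = 0)
    {E E' : X.Modules} (hE : FlatMod.IsFinLocFree E) (hE' : FlatMod.IsFinLocFree E')
    [ExactPairing E' E] (V : Y.Opens)
    (m : Γ((Scheme.Modules.pullback (pullback.fst f g)).obj E' ⊗ F, pullback.snd f g ⁻¹ᵁ V)) :
    ((Scheme.Modules.pullback (pullback.fst f g)).obj E' ◁ h).app (pullback.snd f g ⁻¹ᵁ V) m = 0 := by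
  let P := Scheme.Modules.pullback (pullback.fst f g)
  let Q := Scheme.Modules.pushforward (pullback.snd f g)
  let _ : ExactPairing (P.obj E') (P.obj E) := Dcoh.MonDual.mapExactPairing P E' E
  have hq : Coh.IsQCoh (Q.obj (P.obj E' ⊗ F)) :=
    Ega1.QcqsPush.isQCoh_pushforward _ _ (Ega1.TensorRestrict.isQCoh_tensorMod _ _
      (FormalA.PullbackQC.isQCoh_pullback _ _ (PerfA.QCohEpi.isQCoh_of_isFinLocFree hE')) hF)
  have key : Q.map (P.obj E' ◁ h) = 0 := by
    refine eq_zero_of_flf hY hq _ fun G hG a => ?_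
    let A := Scheme.Modules.pullbackPushforwardAdjunction (pullback.snd f g)
    have h1 : (A.homEquiv _ _).symm a ≫ P.obj E' ◁ h = 0 := by
      let b : P.obj E ⊗ (Scheme.Modules.pullback (pullback.snd f g)).obj G ⟶ F :=
        (tensorLeftHomEquiv _ (P.obj E') (P.obj E) _).symm ((A.homEquiv _ _).symm a)
      have h2 : b ≫ h = 0 := h0 E G hE hG b
      have h3 := tensorLeftHomEquiv_naturality (Y := P.obj E') (Y' := P.obj E) b h
      rw [Equiv.apply_symm_apply, h2] at h3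
      rw [← h3]
      simp [tensorLeftHomEquiv]
    apply (A.homEquiv _ _).symm.injective
    rw [Adjunction.homEquiv_naturality_right_symm, h1]
    simp [Adjunction.homEquiv_counit]
  exact congr((Scheme.Modules.Hom.app $key V) m)

theorem exists_pairing {X : Scheme.{u}} {E : X.Modules} (hE : FlatMod.IsFinLocFree E) :
    ∃ E' : X.Modules, FlatMod.IsFinLocFree E' ∧ Nonempty (ExactPairing E' E) := by
  obtain ⟨E', ⟨e⟩⟩ := Dcoh.DualFLF.exists_exactPairing hE
  exact ⟨E', Dcoh.DualFLF.isFinLocFree_dual hE E', ⟨BraidedCategory.exactPairing_swap E E'⟩⟩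

theorem step2 [CompactSpace X] [QuasiSeparatedSpace X] (hX : PerfAux.HasResolutionProperty X)
    [CompactSpace Y] [QuasiSeparatedSpace Y] (hY : PerfAux.HasResolutionProperty Y)
    [IsAffine S] {F H : (pullback f g).Modules} (hF : Coh.IsQCoh F) (h : F ⟶ H)
    (h0 : ∀ (E : X.Modules) (G : Y.Modules), FlatMod.IsFinLocFree E → FlatMod.IsFinLocFree G →
      ∀ φ : box f g E G ⟶ F, φ ≫ h = 0) {V : Y.Opens} (hV : IsAffineOpen V) :
    (Scheme.Modules.pushforward (pullback.snd f g ⁻¹ᵁ V).ι ⋙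
      Scheme.Modules.pushforward (pullback.fst f g)).map
        ((Scheme.Modules.restrictFunctor (pullback.snd f g ⁻¹ᵁ V).ι).map h) = 0 := by
  have hf : QuasiCompact f := inferInstance
  have hf' : QuasiSeparated f := inferInstance
  let R := Scheme.Modules.restrictFunctor (pullback.snd f g ⁻¹ᵁ V).ι
  let P := Scheme.Modules.pullback (pullback.fst f g)
  have haff := isAffineHom_fst f g hV
  have hq : Coh.IsQCoh ((Scheme.Modules.pushforward (pullback.snd f g ⁻¹ᵁ V).ι ⋙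
      Scheme.Modules.pushforward (pullback.fst f g)).obj (R.obj F)) := by
    have h1 := Ega1.QcqsPush.isQCoh_pushforward
      ((pullback.snd f g ⁻¹ᵁ V).ι ≫ pullback.fst f g) (R.obj F)
      (PerfA.QCohSerre.isQCoh_restrict _ hF)
    exact PerfA.QCohSerre.isQCoh_of_iso ((Scheme.Modules.pushforwardComp _ _).app (R.obj F)).symm h1
  refine eq_zero_of_flf hX hq _ fun E hE a => ?_
  obtain ⟨E', hE', ⟨pr⟩⟩ := exists_pairing hE
  let _ : ExactPairing (P.obj E') (P.obj E) := Dcoh.MonDual.mapExactPairing P E' E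
  let _ : ExactPairing (R.obj (P.obj E')) (R.obj (P.obj E)) :=
    Dcoh.MonDual.mapExactPairing R (P.obj E') (P.obj E)
  let A := adj (pullback.fst f g) (W := pullback.snd f g ⁻¹ᵁ V)
  have h1 : (A.homEquiv _ _).symm a ≫ R.map h = 0 := by
    refine comp_eq_zero_of_pairing (A := R.obj (P.obj E)) (A' := R.obj (P.obj E')) (R.map h)
      (fun d => ?_) _
    have h2 := comp_restrict_eq_zero (P.obj E' ◁ h) (pullback.snd f g ⁻¹ᵁ V)
      (step1 f g hY hF h h0 hE hE' V) (d ≫ Functor.LaxMonoidal.μ R (P.obj E') F)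
    have h3 := Functor.LaxMonoidal.μ_natural_right (F := R) (P.obj E') h
    rw [Category.assoc, ← h3, ← Category.assoc] at h2
    rwa [← cancel_mono (Functor.LaxMonoidal.μ R (P.obj E') H), zero_comp]
  apply (A.homEquiv _ _).symm.injective
  rw [Adjunction.homEquiv_naturality_right_symm, h1]
  simp [Adjunction.homEquiv_counit]

/-- Box products of finite locally free modules detect morphisms out of quasi-coherent modules. -/
theorem generates [CompactSpace X] [QuasiSeparatedSpace X] (hX : PerfAux.HasResolutionProperty X)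
    [CompactSpace Y] [QuasiSeparatedSpace Y] (hY : PerfAux.HasResolutionProperty Y)
    [IsAffine S] {F H : (pullback f g).Modules} (hF : Coh.IsQCoh F) (h : F ⟶ H)
    (h0 : ∀ (E : X.Modules) (G : Y.Modules), FlatMod.IsFinLocFree E → FlatMod.IsFinLocFree G →
      ∀ φ : box f g E G ⟶ F, φ ≫ h = 0) : h = 0 := by
  refine FormalB.ModPowAff2.eq_zero_of_affine_cover hF _ fun z => ?_
  obtain ⟨V, hV, hzV, -⟩ := exists_isAffineOpen_mem_and_subset (U := (⊤ : Y.Opens))
    (x := pullback.snd f g z) trivial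
  obtain ⟨U, hU, hzU, -⟩ := exists_isAffineOpen_mem_and_subset (U := (⊤ : X.Opens))
    (x := pullback.fst f g z) trivial
  have haff := isAffineHom_fst f g hV
  have h1 := step2 f g hX hY hF h h0 hV
  let j := (pullback.snd f g ⁻¹ᵁ V).ι
  refine ⟨j ''ᵁ (j ⁻¹ᵁ (pullback.fst f g ⁻¹ᵁ U)), ?_, ?_, fun m => ?_⟩
  · exact ⟨⟨z, hzV⟩, hzU, rfl⟩
  · exact (hU.preimage (j ≫ pullback.fst f g)).image_of_isOpenImmersion j
  · exact congr((Scheme.Modules.Hom.app $h1 U) m)

/-- The class of box products of finite locally free modules. -/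
def IsBox : ObjectProperty (pullback f g).Modules := fun M =>
  ∃ (E : X.Modules) (G : Y.Modules), FlatMod.IsFinLocFree E ∧ FlatMod.IsFinLocFree G ∧
    Nonempty (M ≅ box f g E G)

theorem IsBox.isFinLocFree {M : (pullback f g).Modules} (h : IsBox f g M) :
    FlatMod.IsFinLocFree M := by
  obtain ⟨E, G, hE, hG, ⟨e⟩⟩ := h
  exact Dcoh.FinLocFree.isFinLocFree_of_iso e.symm (Sga67.LocBasis.isFinLocFree_tensorMod
    (PerfC.PullRestrict.isFinLocFree_pullback _ hE) (PerfC.PullRestrict.isFinLocFree_pullback _ hG))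

theorem exists_sum_aux {C : Type*} [Category* C] [Preadditive C] {A B D F : C} (i₁ : A ⟶ D)
    (i₂ : B ⟶ D) (p₁ : D ⟶ A) (p₂ : D ⟶ B) (h11 : i₁ ≫ p₁ = 𝟙 _) (h22 : i₂ ≫ p₂ = 𝟙 _)
    (h12 : i₁ ≫ p₂ = 0) (h21 : i₂ ≫ p₁ = 0) (φ : A ⟶ F) (ψ : B ⟶ F) :
    ∃ π : D ⟶ F, (∃ a, a ≫ π = φ) ∧ (∃ b, b ≫ π = ψ) := by
  refine ⟨p₁ ≫ φ + p₂ ≫ ψ, ⟨i₁, ?_⟩, ⟨i₂, ?_⟩⟩
  · rw [Preadditive.comp_add, reassoc_of% h11, reassoc_of% h12, zero_comp, add_zero]
  · rw [Preadditive.comp_add, reassoc_of% h21, reassoc_of% h22, zero_comp, zero_add]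

/-- Two box products over `F` are dominated by one. -/
theorem exists_box_sum {F : (pullback f g).Modules} {E₁ E₂ : X.Modules} {G₁ G₂ : Y.Modules}
    (φ : box f g E₁ G₁ ⟶ F) (ψ : box f g E₂ G₂ ⟶ F) :
    ∃ π : box f g (E₁ ⊞ E₂) (G₁ ⊞ G₂) ⟶ F, (∃ a, a ≫ π = φ) ∧ (∃ b, b ≫ π = ψ) := by
  let P := Scheme.Modules.pullback (pullback.fst f g)
  let Q := Scheme.Modules.pullback (pullback.snd f g)
  let i₁ : P.obj E₁ ⊗ Q.obj G₁ ⟶ P.obj (E₁ ⊞ E₂) ⊗ Q.obj (G₁ ⊞ G₂) :=
    P.map biprod.inl ⊗ₘ Q.map biprod.inl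
  let i₂ : P.obj E₂ ⊗ Q.obj G₂ ⟶ P.obj (E₁ ⊞ E₂) ⊗ Q.obj (G₁ ⊞ G₂) :=
    P.map biprod.inr ⊗ₘ Q.map biprod.inr
  let p₁ : P.obj (E₁ ⊞ E₂) ⊗ Q.obj (G₁ ⊞ G₂) ⟶ P.obj E₁ ⊗ Q.obj G₁ :=
    P.map biprod.fst ⊗ₘ Q.map biprod.fst
  let p₂ : P.obj (E₁ ⊞ E₂) ⊗ Q.obj (G₁ ⊞ G₂) ⟶ P.obj E₂ ⊗ Q.obj G₂ :=
    P.map biprod.snd ⊗ₘ Q.map biprod.snd
  have h11 : i₁ ≫ p₁ = 𝟙 _ := by
    simp only [i₁, p₁, tensorHom_comp_tensorHom, ← CategoryTheory.Functor.map_comp, biprod.inl_fst,
      CategoryTheory.Functor.map_id, id_tensorHom_id]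
  have h22 : i₂ ≫ p₂ = 𝟙 _ := by
    simp only [i₂, p₂, tensorHom_comp_tensorHom, ← CategoryTheory.Functor.map_comp, biprod.inr_snd,
      CategoryTheory.Functor.map_id, id_tensorHom_id]
  have h12 : i₁ ≫ p₂ = 0 := by
    simp only [i₁, p₂, tensorHom_comp_tensorHom, ← CategoryTheory.Functor.map_comp, biprod.inl_snd,
      Functor.map_zero]
    simp
  have h21 : i₂ ≫ p₁ = 0 := by
    simp only [i₂, p₁, tensorHom_comp_tensorHom, ← CategoryTheory.Functor.map_comp, biprod.inr_fst,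
      Functor.map_zero]
    simp
  exact exists_sum_aux i₁ i₂ p₁ p₂ h11 h22 h12 h21 φ ψ

/-- Every quasi-coherent module of finite type on `X ×_S Y` is a quotient of a box product. -/
theorem exists_epi [CompactSpace X] [QuasiSeparatedSpace X] (hX : PerfAux.HasResolutionProperty X)
    [CompactSpace Y] [QuasiSeparatedSpace Y] (hY : PerfAux.HasResolutionProperty Y)
    [IsAffine S] (F : (pullback f g).Modules) (hF : Coh.IsQCoh F) (hF' : CohB1.IsFT F) :
    ∃ (E : X.Modules) (G : Y.Modules), FlatMod.IsFinLocFree E ∧ FlatMod.IsFinLocFree G ∧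
      ∃ π : box f g E G ⟶ F, Epi π := by
  have hc : CompactSpace ↑(pullback f g) := inferInstance
  obtain ⟨A, π, ⟨E, G, hE, hG, ⟨e⟩⟩, hπ⟩ := GenEpi.exists_epi_of_generates (IsBox f g)
    (fun A hA => PerfA.QCohEpi.isQCoh_of_isFinLocFree (hA.isFinLocFree f g)) F hF hF'
    ⟨box f g (FlatMod.freeMod X 0) (FlatMod.freeMod Y 0), _, _,
      Dcoh.FinLocFree.isFinLocFree_freeMod X 0, Dcoh.FinLocFree.isFinLocFree_freeMod Y 0,
      ⟨Iso.refl _⟩⟩
    (by
      rintro A B φ ψ ⟨E₁, G₁, hE₁, hG₁, ⟨e₁⟩⟩ ⟨E₂, G₂, hE₂, hG₂, ⟨e₂⟩⟩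
      obtain ⟨π, ⟨a, ha⟩, b, hb⟩ := exists_box_sum f g (e₁.inv ≫ φ) (e₂.inv ≫ ψ)
      refine ⟨_, π, ⟨E₁ ⊞ E₂, G₁ ⊞ G₂, Dcoh.FinLocFree.isFinLocFree_biprod hE₁ hE₂,
        Dcoh.FinLocFree.isFinLocFree_biprod hG₁ hG₂, ⟨Iso.refl _⟩⟩, ⟨e₁.hom ≫ a, ?_⟩,
        ⟨e₂.hom ≫ b, ?_⟩⟩
      · rw [Category.assoc, ha, Iso.hom_inv_id_assoc]
      · rw [Category.assoc, hb, Iso.hom_inv_id_assoc])
    (fun H h _ h0 => generates f g hX hY hF h fun E G hE hG φ =>
      h0 _ ⟨E, G, hE, hG, ⟨Iso.refl _⟩⟩ φ)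
  exact ⟨E, G, hE, hG, e.inv ≫ π, epi_comp _ _⟩

end Gen

end K237.BoxGen
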