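import Groth.Agent.Krr.H502.MkRes

/-!
# Infinite left resolutions by objects of a class

`Q` is a class of objects such that every member `M` receives an epimorphism from a member of `P`
whose kernel is again in `Q`. Then every member of `Q` has a left resolution with terms in `P`.
-/

set_option autoImplicit false
universe u v

open CategoryTheory CategoryTheory.Limits

namespace K237.PRes

variable {C : Type u} [Category.{v} C] [Abelian C] (P Q : ObjectProperty C)
  (hPQ : ∀ M, Q M → ∃ (A : C) (π : A ⟶ M), P A ∧ Epi π ∧ Q (kernel π))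

/-- The chosen cover. -/
noncomputable def cov (M : {M : C // Q M}) : C := (hPQ M.1 M.2).choose

/-- The projection of the chosen cover. -/
noncomputable def proj (M : {M : C // Q M}) : cov P Q hPQ M ⟶ M.1 :=
  (hPQ M.1 M.2).choose_spec.choose

lemma cov_mem (M : {M : C // Q M}) : P (cov P Q hPQ M) := (hPQ M.1 M.2).choose_spec.choose_spec.1

instance epi_proj (M : {M : C // Q M}) : Epi (proj P Q hPQ M) :=
  (hPQ M.1 M.2).choose_spec.choose_spec.2.1

/-- The syzygies. -/
noncomputable def syz (M : {M : C // Q M}) : ℕ → {M : C // Q M}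
  | 0 => M
  | n + 1 => ⟨kernel (proj P Q hPQ (syz M n)), (hPQ _ (syz M n).2).choose_spec.choose_spec.2.2⟩

/-- The inclusion of the next syzygy. -/
noncomputable def inc (M : {M : C // Q M}) (n : ℕ) :
    (syz P Q hPQ M (n + 1)).1 ⟶ cov P Q hPQ (syz P Q hPQ M n) :=
  kernel.ι (proj P Q hPQ (syz P Q hPQ M n))

instance mono_inc (M : {M : C // Q M}) (n : ℕ) : Mono (inc P Q hPQ M n) := by
  exact (inferInstance : Mono (kernel.ι (proj P Q hPQ (syz P Q hPQ M n))))

lemma inc_proj (M : {M : C // Q M}) (n : ℕ) :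
    inc P Q hPQ M n ≫ proj P Q hPQ (syz P Q hPQ M n) = 0 := kernel.condition _

/-- The differentials. -/
noncomputable def d (M : {M : C // Q M}) (n : ℕ) :
    cov P Q hPQ (syz P Q hPQ M (n + 1)) ⟶ cov P Q hPQ (syz P Q hPQ M n) :=
  proj P Q hPQ (syz P Q hPQ M (n + 1)) ≫ inc P Q hPQ M n

lemma d_comp (M : {M : C // Q M}) (n : ℕ) : d P Q hPQ M (n + 1) ≫ d P Q hPQ M n = 0 := by
  rw [d, d, Category.assoc, ← Category.assoc (inc P Q hPQ M (n + 1)), inc_proj, zero_comp, comp_zero]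

lemma d_proj (M : {M : C // Q M}) :
    d P Q hPQ M 0 ≫ proj P Q hPQ (syz P Q hPQ M 0) = 0 := by
  rw [d, Category.assoc, inc_proj, comp_zero]

lemma exact_aux {K A B D E : C} (p : A ⟶ K) (i : K ⟶ B) (q : B ⟶ D) [Epi p] (w : i ≫ q = 0)
    (hi : (ShortComplex.mk i q w).Exact) (f : A ⟶ B) (hf : f = p ≫ i) (j : D ⟶ E) [Mono j]
    (g : B ⟶ E) (hg : g = q ≫ j) (w' : f ≫ g = 0) : (ShortComplex.mk f g w').Exact := by
  subst hf hg
  have h1 : (ShortComplex.mk i (q ≫ j) (by rw [← Category.assoc, w, zero_comp])).Exact := by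
    rw [ShortComplex.exact_iff_exact_up_to_refinements] at hi ⊢
    intro T x hx
    refine hi x ?_
    dsimp at x hx ⊢
    rw [← Category.assoc] at hx
    exact zero_of_comp_mono j hx
  rw [ShortComplex.exact_iff_exact_up_to_refinements] at h1 ⊢
  intro T x hx
  obtain ⟨T', π, hπ, y, hy⟩ := h1 x hx
  obtain ⟨T'', π', hπ', z, hz⟩ := surjective_up_to_refinements_of_epi p y
  refine ⟨T'', π' ≫ π, epi_comp _ _, z, ?_⟩
  dsimp at hy ⊢
  rw [Category.assoc, hy, reassoc_of% hz]

lemma exact_inc (M : {M : C // Q M}) (n : ℕ) :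
    (ShortComplex.mk _ _ (inc_proj P Q hPQ M n)).Exact :=
  ShortComplex.exact_of_f_is_kernel _ (kernelIsKernel _)

include hPQ in
/-- Left resolutions by objects of `P`. -/
theorem exists_resolution (M : C) (hM : Q M) :
    ∃ (K : ChainComplex C ℕ) (π : K ⟶ (ChainComplex.single₀ C).obj M),
      QuasiIso π ∧ ∀ n, P (K.X n) := by
  let M' : {M : C // Q M} := ⟨M, hM⟩
  refine ⟨_, Groth.Agent.Krr.H502.MkRes.aug (fun n => cov P Q hPQ (syz P Q hPQ M' n))
    (d P Q hPQ M') (d_comp P Q hPQ M') (proj P Q hPQ M') (d_proj P Q hPQ M'), ?_,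
    fun n => cov_mem P Q hPQ _⟩
  have hε : Epi (proj P Q hPQ M') := epi_proj P Q hPQ M'
  refine @Groth.Agent.Krr.H502.MkRes.quasiIso_aug _ _ _ _ _ _ _ _ _ hε ?_ fun k => ?_
  · refine exact_aux (proj P Q hPQ (syz P Q hPQ M' 1)) (inc P Q hPQ M' 0) (proj P Q hPQ M')
      (inc_proj P Q hPQ M' 0) (exact_inc P Q hPQ M' 0) _ rfl (𝟙 _) _ (Category.comp_id _).symm _
  · exact exact_aux (proj P Q hPQ (syz P Q hPQ M' (k + 2))) (inc P Q hPQ M' (k + 1))
      (proj P Q hPQ (syz P Q hPQ M' (k + 1))) (inc_proj P Q hPQ M' (k + 1))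
      (exact_inc P Q hPQ M' (k + 1)) _ rfl (inc P Q hPQ M' k) _ rfl _

end K237.PRes
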