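import Groth.Agent.DEquiv.K353.Calc
import Groth.Agent.Dcoh.LTXMon305
import Groth.Agent.Dcoh.PerfDual
import Groth.Agent.S12508
import Groth.Agent.PerfA.HypAffine
import Groth.Agent.PerfA.StalkExact
import Groth.Agent.CohtopA.ColimSections
import Groth.Agent.Fixpt.H313.DX
import Groth.Agent.Fixpt.H313.AddD

/-!
# `Hom(E, F ⊗ -)` commutes with filtered colimits of quasi-coherent modules, `E` perfect
-/

set_option autoImplicit false

universe u

open CategoryTheory CategoryTheory.Limits AlgebraicGeometry MonoidalCategory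

attribute [local instance] HasDerivedCategory.standard

open scoped Groth.Agent.Dcoh.MonCat Groth.Agent.Dcoh.ModD

namespace K237.Cont

open K353.Calc Groth.Agent Groth.Agent.Dcoh.MonD Groth.Agent.Dcoh.ModD Groth.Agent.Dcoh.Restrict

section Sections

variable {X : Scheme.{u}} [CompactSpace X] [QuasiSeparatedSpace X] {J : Type u} [SmallCategory J]
  [IsFiltered J] {D : J ⥤ X.Modules} {c : Cocone D}

theorem exists_rep (hc : IsColimit c) (s : Γ(c.pt, ⊤)) :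
    ∃ (j : J) (t : Γ(D.obj j, ⊤)), (c.ι.app j).app ⊤ t = s :=
  Groth.Agent.CohtopA.ColimSections.exists_rep_of_isCompact
    (isColimitOfPreserves (PerfA.StalkExact.toSheafAb X) hc) (U := (⊤ : X.Opens)) isCompact_univ s

theorem exists_zero (hc : IsColimit c) {j : J} (s : Γ(D.obj j, ⊤)) (hs : (c.ι.app j).app ⊤ s = 0) :
    ∃ (k : J) (f : j ⟶ k), (D.map f).app ⊤ s = 0 :=
  Groth.Agent.CohtopA.ColimSections.exists_zero_of_isCompact
    (isColimitOfPreserves (PerfA.StalkExact.toSheafAb X) hc) (U := (⊤ : X.Opens)) isCompact_univ s hs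

end Sections

section Unit

variable {X : Scheme.{u}}

/-- The pullback of the structure module in degree zero. -/
theorem nonempty_pull (π : X ⟶ Spec Γ(X, ⊤)) [DCoh.HasLpull π] :
    Nonempty ((DCoh.Lpull π).obj ((DerivedCategory.singleFunctor _ 0).obj (Coh.structureModule (Spec Γ(X, ⊤)))) ≅
      𝟙_ (DCoh.D X)) := by
  let := Dual.H379.DQMon.lpullMon π
  exact ⟨(DCoh.Lpull π).mapIso (Dcoh.DualX.unitIso _) ≪≫ (Functor.Monoidal.εIso (DCoh.Lpull π)).symm⟩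

variable (π : X ⟶ Spec Γ(X, ⊤)) [DCoh.HasLpull π] [DCoh.HasRpush π]
  (e : (DCoh.Lpull π).obj ((DerivedCategory.singleFunctor _ 0).obj (Coh.structureModule (Spec Γ(X, ⊤)))) ≅
      𝟙_ (DCoh.D X))

/-- Homs from the unit as global sections. -/
noncomputable def tr (K : DCoh.D X) (φ : 𝟙_ (DCoh.D X) ⟶ K) : Γ(DCoh.HD ((DCoh.Rpush π).obj K) 0, ⊤) :=
  unitEquiv _ (PerfA.Hyp0.toH ((Dcoh.DerPull.lpullAdj π).homEquiv _ _ (e.hom ≫ φ)))

theorem tr_comp {K L : DCoh.D X} (φ : 𝟙_ (DCoh.D X) ⟶ K) (g : K ⟶ L) :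
    tr π e L (φ ≫ g) = ((DerivedCategory.homologyFunctor _ 0).map ((DCoh.Rpush π).map g)).app ⊤ (tr π e K φ) := by
  unfold tr
  rw [← Category.assoc, Adjunction.homEquiv_naturality_right, PerfA.Hyp0.toH_comp]
  rfl

theorem tr_zero (K : DCoh.D X) : tr π e K 0 = 0 := by
  unfold tr
  rw [comp_zero, Adjunction.homEquiv_unit, Functor.map_zero, comp_zero]
  have : PerfA.Hyp0.toH (0 : (DerivedCategory.singleFunctor _ 0).obj (Coh.structureModule (Spec Γ(X, ⊤))) ⟶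
      (DCoh.Rpush π).obj K) = 0 := by
    simp [PerfA.Hyp0.toH]
  rw [this, map_zero]

theorem tr_bijective [QuasiCompact π] [QuasiSeparated π] (K : DCoh.D X) (hK : DCoh.IsQCohD K) :
    Function.Bijective (tr π e K) := by
  have h := PerfA.HypAffine.unit_bijective ((DCoh.Rpush π).obj K) (qc_rpush π K hK) 0
  have h2 : tr π e K = (fun φ => unitEquiv (DCoh.HD ((DCoh.Rpush π).obj K) 0) (PerfA.Hyp0.toH φ)) ∘
      (fun φ => (Dcoh.DerPull.lpullAdj π).homEquiv _ _ φ) ∘ (fun φ => e.hom ≫ φ) := rfl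
  rw [h2]
  refine h.comp (((Dcoh.DerPull.lpullAdj π).homEquiv _ _).bijective.comp ?_)
  exact (Iso.homFromEquiv e).symm.bijective

end Unit

section Cx

variable {X : Scheme.{u}} [CompactSpace X] [QuasiSeparatedSpace X] {J : Type u} [SmallCategory J]
  [IsFiltered J] {C : J ⥤ CochainComplex X.Modules ℤ} {c : Cocone C}

/-- The colimit statement of S12508 for an arbitrary colimit cocone. -/
theorem isColimit_HD {Y : Scheme.{u}} (f : X ⟶ Y) [QuasiCompact f] [QuasiSeparated f] [DCoh.HasRpush f]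
    (hc : IsColimit c) (hC : ∀ j : J, DCoh.IsQCohD (DCoh.toD X (C.obj j))) (i : ℤ) :
    Nonempty (IsColimit ((DerivedCategory.Q ⋙ DCoh.Rpush f ⋙ DerivedCategory.homologyFunctor Y.Modules i).mapCocone c)) := by
  have : HasColimit C := ⟨⟨_, hc⟩⟩
  obtain ⟨h⟩ := S12508.result f C hC i
  exact ⟨IsColimit.ofIsoColimit h ((Cocone.functoriality C _).mapIso ((colimit.isColimit C).uniqueUpToIso hc))⟩

variable (hc : IsColimit c) (hC : ∀ j : J, DCoh.IsQCohD (DCoh.toD X (C.obj j))) (hc' : DCoh.IsQCohD (DCoh.toD X c.pt))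
include hc hC hc'

theorem cx_surj (φ : 𝟙_ (DCoh.D X) ⟶ DerivedCategory.Q.obj c.pt) :
    ∃ (j : J) (ψ : 𝟙_ (DCoh.D X) ⟶ DerivedCategory.Q.obj (C.obj j)), ψ ≫ DerivedCategory.Q.map (c.ι.app j) = φ := by
  let π : X ⟶ Spec Γ(X, ⊤) := X.toSpecΓ
  have := hasLpull π
  have := hasRpush π
  obtain ⟨e⟩ := nonempty_pull π
  obtain ⟨h⟩ := isColimit_HD π hc hC 0
  obtain ⟨j, t, ht⟩ := exists_rep h (tr π e _ φ)
  obtain ⟨ψ, rfl⟩ := (tr_bijective π e _ (hC j)).2 t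
  exact ⟨j, ψ, (tr_bijective π e _ hc').1 ((tr_comp π e _ _).trans ht)⟩

theorem cx_inj (j : J) (ψ : 𝟙_ (DCoh.D X) ⟶ DerivedCategory.Q.obj (C.obj j))
    (hψ : ψ ≫ DerivedCategory.Q.map (c.ι.app j) = 0) :
    ∃ (k : J) (g : j ⟶ k), ψ ≫ DerivedCategory.Q.map (C.map g) = 0 := by
  let π : X ⟶ Spec Γ(X, ⊤) := X.toSpecΓ
  have := hasLpull π
  have := hasRpush π
  obtain ⟨e⟩ := nonempty_pull π
  obtain ⟨h⟩ := isColimit_HD π hc hC 0
  obtain ⟨k, g, hg⟩ := exists_zero h (tr π e _ ψ) ((tr_comp π e _ _).symm.trans (by rw [hψ]; exact tr_zero π e _))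
  exact ⟨k, g, (tr_bijective π e _ (hC k)).1 ((tr_comp π e _ _).trans (hg.trans (tr_zero π e _).symm))⟩

end Cx

section Dual

variable {C : Type*} [Category C] [MonoidalCategory C] (E E' F : C) [ExactPairing E' E]

/-- `Hom(E, F ⊗ M) ≃ Hom(1, (E' ⊗ F) ⊗ M)`. -/
noncomputable def U (M : C) : (E ⟶ F ⊗ M) ≃ (𝟙_ C ⟶ (E' ⊗ F) ⊗ M) :=
  ((ρ_ E).symm.homFromEquiv.trans (tensorLeftHomEquiv (𝟙_ C) E' E (F ⊗ M))).trans (α_ E' F M).symm.homToEquiv

theorem U_apply (M : C) (φ : E ⟶ F ⊗ M) :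
    U E E' F M φ = tensorLeftHomEquiv (𝟙_ C) E' E (F ⊗ M) ((ρ_ E).hom ≫ φ) ≫ (α_ E' F M).inv := rfl

theorem U_comp {M N : C} (φ : E ⟶ F ⊗ M) (g : M ⟶ N) :
    U E E' F N (φ ≫ F ◁ g) = U E E' F M φ ≫ (E' ⊗ F) ◁ g := by
  rw [U_apply, U_apply, ← Category.assoc, tensorLeftHomEquiv_naturality]
  simp

theorem U_zero [Preadditive C] [MonoidalPreadditive C] (M : C) : U E E' F M 0 = 0 := by
  rw [U_apply, comp_zero]
  have := tensorLeftHomEquiv_naturality (X := 𝟙_ C) (Y := E') (Y' := E) (Z := F ⊗ M) (Z' := F ⊗ M) 0 0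
  rw [comp_zero, MonoidalPreadditive.whiskerLeft_zero, comp_zero] at this
  rw [this, zero_comp]

end Dual

section Mod

variable {X : Scheme.{u}}

/-- A module in degree zero. -/
noncomputable abbrev S (X : Scheme.{u}) : X.Modules ⥤ DCoh.D X :=
  CochainComplex.singleFunctor X.Modules 0 ⋙ DerivedCategory.Q

theorem isQCohD_S (M : X.Modules) (hM : Coh.IsQCoh M) : DCoh.IsQCohD ((S X).obj M) :=
  PerfA.QCohD.isQCohD_inD M hM

instance preservesColimitsOfShape_tensorLeft (J : Type u) [SmallCategory J] (K : CochainComplex X.Modules ℤ) :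
    PreservesColimitsOfShape J (tensorLeft K) := by
  have h : PreservesColimitsOfShape J ((DCoh.tensorBi (X := X)).map₂CochainComplex.obj K) :=
    Groth.Agent.Dcoh.KFlatAbs.preservesColimitsOfShape_obj _ _ K
  rw [← PerfC.DTens.tensorCx_eq] at h
  exact h

instance preservesColimitsOfShape_single (J : Type u) [SmallCategory J] :
    PreservesColimitsOfShape J (CochainComplex.singleFunctor X.Modules 0) :=
  inferInstanceAs (PreservesColimitsOfShape J (HomologicalComplex.single X.Modules (ComplexShape.up ℤ) 0))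

/-- `G ⊗ M` is computed by a functor to complexes which commutes with colimits in `M`. -/
theorem exists_model (G : DCoh.D X) (J : Type u) [SmallCategory J] :
    ∃ (Φ : X.Modules ⥤ CochainComplex X.Modules ℤ) (_ : PreservesColimitsOfShape J Φ),
      Nonempty (S X ⋙ tensorLeft G ≅ Φ ⋙ DerivedCategory.Q) := by
  have hes : (LP (KF X)).EssSurj := Localization.essSurj (LP (KF X)) (qisP (KF X))
  obtain ⟨⟨K, hK⟩, ⟨e⟩⟩ := hes.mem_essImage G
  have e : DerivedCategory.Q.obj K ≅ G := e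
  let μ : DerivedCategory.Q ⋙ tensorLeft G ≅ tensorLeft K ⋙ DerivedCategory.Q :=
    Functor.isoWhiskerLeft _ ((curriedTensor (DCoh.D X)).mapIso e.symm) ≪≫ μL (P := KF X) K hK
  exact ⟨CochainComplex.singleFunctor X.Modules 0 ⋙ tensorLeft K, inferInstance,
    ⟨Functor.associator _ _ _ ≪≫ Functor.isoWhiskerLeft (CochainComplex.singleFunctor X.Modules 0) μ⟩⟩

variable [CompactSpace X] [QuasiSeparatedSpace X] {J : Type u} [SmallCategory J]
  [IsFiltered J] {A : J ⥤ X.Modules} {c : Cocone A} (hc : IsColimit c) (hA : ∀ j, Coh.IsQCoh (A.obj j))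
  (hA' : Coh.IsQCoh c.pt)
include hc hA hA'

theorem unit_surj (G : DCoh.D X) (hG : DCoh.IsQCohD G) (φ : 𝟙_ (DCoh.D X) ⟶ G ⊗ (S X).obj c.pt) :
    ∃ (j : J) (ψ : 𝟙_ (DCoh.D X) ⟶ G ⊗ (S X).obj (A.obj j)), ψ ≫ G ◁ (S X).map (c.ι.app j) = φ := by
  obtain ⟨Φ, hΦ, ⟨μ⟩⟩ := exists_model G J
  have hq : ∀ M : X.Modules, Coh.IsQCoh M → DCoh.IsQCohD (DCoh.toD X (Φ.obj M)) := fun M hM =>
    PerfA.QCohD.isQCohD_of_iso (μ.app M) (qc_tensor _ _ hG (isQCohD_S M hM))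
  obtain ⟨j, ψ, hψ⟩ := cx_surj (isColimitOfPreserves Φ hc) (fun j => hq _ (hA j)) (hq _ hA') (φ ≫ μ.hom.app c.pt)
  refine ⟨j, ψ ≫ μ.inv.app (A.obj j), ?_⟩
  rw [← cancel_mono (μ.hom.app c.pt), ← hψ]
  have h1 : G ◁ (S X).map (c.ι.app j) ≫ μ.hom.app c.pt =
    μ.hom.app (A.obj j) ≫ DerivedCategory.Q.map (Φ.map (c.ι.app j)) := μ.hom.naturality (c.ι.app j)
  rw [Category.assoc, h1, Category.assoc]
  exact congrArg (fun t => ψ ≫ t) (μ.inv_hom_id_app_assoc (A.obj j) _)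

theorem unit_inj (G : DCoh.D X) (hG : DCoh.IsQCohD G) (j : J) (ψ : 𝟙_ (DCoh.D X) ⟶ G ⊗ (S X).obj (A.obj j))
    (hψ : ψ ≫ G ◁ (S X).map (c.ι.app j) = 0) :
    ∃ (k : J) (g : j ⟶ k), ψ ≫ G ◁ (S X).map (A.map g) = 0 := by
  obtain ⟨Φ, hΦ, ⟨μ⟩⟩ := exists_model G J
  have hq : ∀ M : X.Modules, Coh.IsQCoh M → DCoh.IsQCohD (DCoh.toD X (Φ.obj M)) := fun M hM =>
    PerfA.QCohD.isQCohD_of_iso (μ.app M) (qc_tensor _ _ hG (isQCohD_S M hM))
  have key : ∀ {M N : X.Modules} (g : M ⟶ N),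
    G ◁ (S X).map g ≫ μ.hom.app N = μ.hom.app M ≫ DerivedCategory.Q.map (Φ.map g) := fun g => μ.hom.naturality g
  obtain ⟨k, g, hg⟩ := cx_inj (isColimitOfPreserves Φ hc) (fun j => hq _ (hA j)) (hq _ hA') j
    (ψ ≫ μ.hom.app (A.obj j)) (by
      have := (Category.assoc ψ _ _).trans ((congrArg (fun t => ψ ≫ t) (key (c.ι.app j))).symm)
      exact this.trans ((Category.assoc _ _ _).symm.trans ((congrArg (fun t => t ≫ μ.hom.app c.pt) hψ).trans zero_comp)))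
  refine ⟨k, g, ?_⟩
  rw [← cancel_mono (μ.hom.app (A.obj k)), zero_comp, Category.assoc, key, ← Category.assoc]
  exact hg

/-- `Hom(E, F ⊗ -)` commutes with filtered colimits of quasi-coherent modules: surjectivity. -/
theorem perf_surj (E F : DCoh.D X) (hE : DCoh.IsPerfect E) (hF : DCoh.IsQCohD F) (φ : E ⟶ F ⊗ (S X).obj c.pt) :
    ∃ (j : J) (ψ : E ⟶ F ⊗ (S X).obj (A.obj j)), ψ ≫ F ◁ (S X).map (c.ι.app j) = φ := by
  obtain ⟨E', hE', ⟨p⟩⟩ := Dcoh.PerfDual.exists_exactPairing E hE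
  let := Fixpt.H313.DX.brDX X
  let _ : ExactPairing E E' := p
  let _ : ExactPairing E' E := BraidedCategory.exactPairing_swap E E'
  have hG : DCoh.IsQCohD (E' ⊗ F) := qc_tensor _ _ (PerfA.PCohQCoh.isQCohD_of_isPerfect hE') hF
  obtain ⟨j, ψ, hψ⟩ := unit_surj hc hA hA' (E' ⊗ F) hG (U E E' F _ φ)
  obtain ⟨ψ, rfl⟩ := (U E E' F _).surjective ψ
  exact ⟨j, ψ, (U E E' F _).injective ((U_comp E E' F _ _).trans hψ)⟩

theorem perf_inj (E F : DCoh.D X) (hE : DCoh.IsPerfect E) (hF : DCoh.IsQCohD F) (j : J)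
    (ψ : E ⟶ F ⊗ (S X).obj (A.obj j)) (hψ : ψ ≫ F ◁ (S X).map (c.ι.app j) = 0) :
    ∃ (k : J) (g : j ⟶ k), ψ ≫ F ◁ (S X).map (A.map g) = 0 := by
  obtain ⟨E', hE', ⟨p⟩⟩ := Dcoh.PerfDual.exists_exactPairing E hE
  let := Fixpt.H313.DX.brDX X
  let _ : ExactPairing E E' := p
  let _ : ExactPairing E' E := BraidedCategory.exactPairing_swap E E'
  have := Fixpt.H313.AddD.monPreDX X
  have hG : DCoh.IsQCohD (E' ⊗ F) := qc_tensor _ _ (PerfA.PCohQCoh.isQCohD_of_isPerfect hE') hF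
  obtain ⟨k, g, hg⟩ := unit_inj hc hA hA' (E' ⊗ F) hG j (U E E' F _ ψ)
    ((U_comp E E' F _ _).symm.trans (by rw [hψ]; exact U_zero E E' F _))
  exact ⟨k, g, (U E E' F _).injective ((U_comp E E' F _ _).trans (hg.trans (U_zero E E' F _).symm))⟩

end Mod

end K237.Cont
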