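import Groth.Agent.Dcoh.SecCoprod
import Groth.Agent.PerfC.ResolAffine
import Groth.Agent.CohqB.QC7
import Groth.Agent.PerfA.QCohSerre

/-!
# From generation to a single epimorphism

If a class `P` of quasi-coherent modules detects nonzero morphisms out of a quasi-coherent module
`F` of finite type and is closed under "finite sums over `F`", then `F` is a quotient of a member
of `P`.
-/

set_option autoImplicit false
universe u

open CategoryTheory CategoryTheory.Limits AlgebraicGeometry Opposite TopologicalSpace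

namespace K237.GenEpi

open Groth.Agent Groth.Agent.PerfC.ResolAffine Groth.Agent.Dcoh.SecCoprod

variable {X : Scheme.{u}}

theorem exists_common {F : X.Modules} (P : ObjectProperty X.Modules) (hne : ∃ A, P A)
    (hadd : ∀ (A B : X.Modules) (φ : A ⟶ F) (ψ : B ⟶ F), P A → P B →
      ∃ (C : X.Modules) (π : C ⟶ F), P C ∧ (∃ a : A ⟶ C, a ≫ π = φ) ∧ (∃ b : B ⟶ C, b ≫ π = ψ))
    {I : Type*} (t : Finset I) (A : I → X.Modules) (φ : ∀ i, A i ⟶ F) (hA : ∀ i, P (A i)) :
    ∃ (C : X.Modules) (π : C ⟶ F), P C ∧ ∀ i ∈ t, ∃ a : A i ⟶ C, a ≫ π = φ i := by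
  classical
  induction t using Finset.induction_on with
  | empty =>
    obtain ⟨C, hC⟩ := hne
    exact ⟨C, 0, hC, by simp⟩
  | insert i t _ ih =>
    obtain ⟨C, π, hC, h⟩ := ih
    obtain ⟨D, ψ, hD, ⟨a, ha⟩, b, hb⟩ := hadd C (A i) π (φ i) hC (hA i)
    refine ⟨D, ψ, hD, fun j hj => ?_⟩
    rcases Finset.mem_insert.1 hj with rfl | hj
    · exact ⟨b, hb⟩
    · obtain ⟨c, hc⟩ := h j hj
      exact ⟨c ≫ a, by rw [Category.assoc, ha, hc]⟩

/-- If `P` detects morphisms out of `F` (quasi-coherent of finite type), then `F` is a quotient of a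
member of `P`. -/
theorem exists_epi_of_generates [CompactSpace X] (P : ObjectProperty X.Modules)
    (hPq : ∀ A, P A → Coh.IsQCoh A) (F : X.Modules) (hF : Coh.IsQCoh F) (hF' : CohB1.IsFT F)
    (hne : ∃ A, P A)
    (hadd : ∀ (A B : X.Modules) (φ : A ⟶ F) (ψ : B ⟶ F), P A → P B →
      ∃ (C : X.Modules) (π : C ⟶ F), P C ∧ (∃ a : A ⟶ C, a ≫ π = φ) ∧ (∃ b : B ⟶ C, b ≫ π = ψ))
    (hgen : ∀ (H : X.Modules) (h : F ⟶ H), Coh.IsQCoh H →
      (∀ A, P A → ∀ φ : A ⟶ F, φ ≫ h = 0) → h = 0) :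
    ∃ (A : X.Modules) (π : A ⟶ F), P A ∧ Epi π := by
  classical
  let I : Type u := {p : Σ W : X.affineOpens, Γ(F, (W : X.Opens)) // ∃ (A : X.Modules) (_ : P A)
    (φ : A ⟶ F) (a : Γ(A, (p.1 : X.Opens))), φ.app (p.1 : X.Opens) a = p.2}
  choose A hA φ a ha using fun i : I => i.2
  let c : Cofan A := Cofan.mk (∐ A) (Sigma.ι A)
  have hc : IsColimit c := coproductIsCoproduct A
  let d : ∐ A ⟶ F := Sigma.desc φ
  have hcop : Coh.IsQCoh (∐ A) := CohqB.QC7.isQCoh_coproduct A fun i => hPq _ (hA i)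
  have hcok : Coh.IsQCoh (cokernel d) := PerfA.QCohSerre.isQCoh_cokernel d hcop hF
  have hπ : cokernel.π d = 0 := by
    refine hgen _ _ hcok fun B hB ψ => ?_
    refine FormalB.ModPowAff2.eq_zero_of_affine_cover (hPq B hB) _ fun x => ?_
    obtain ⟨V, hV, hx, -⟩ := exists_isAffineOpen_mem_and_subset (U := (⊤ : X.Opens)) (x := x) trivial
    refine ⟨V, hx, hV, fun b => ?_⟩
    let i : I := ⟨⟨⟨V, hV⟩, ψ.app V b⟩, ⟨B, hB, ψ, b, rfl⟩⟩
    have h1 : φ i ≫ cokernel.π d = 0 := by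
      rw [show φ i = Sigma.ι A i ≫ d from (Sigma.ι_desc _ _).symm, Category.assoc,
        cokernel.condition, comp_zero]
    have h2 : (φ i ≫ cokernel.π d).app V (a i) = 0 := by rw [h1]; rfl
    have h3 : (φ i).app V (a i) = ψ.app V b := ha i
    change (cokernel.π d).app V (ψ.app V b) = 0
    rw [← h3]
    exact h2
  have hd : Epi d := Abelian.epi_of_cokernel_π_eq_zero d hπ
  obtain ⟨T, hT⟩ := exists_finite_affine_cover X
  have hgenS : ∀ V : X.affineOpens, ∃ S : Finset Γ(F, (V : X.Opens)),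
      Submodule.span Γ(X, (V : X.Opens)) (S : Set Γ(F, (V : X.Opens))) = ⊤ := fun V =>
    (CohqB.FiniteType2.finite_sections_of_isFT F hF' V.2).fg_top
  choose S hS using hgenS
  have hlift : ∀ (V : X.affineOpens) (m : Γ(F, (V : X.Opens))), ∃ (t : Finset I)
      (z : ∀ i, Γ(A i, (V : X.Opens))), m = ∑ i ∈ t, (φ i).app (V : X.Opens) (z i) := by
    intro V m
    obtain ⟨s, rfl⟩ := CohqB.QC5.app_surjective_of_epi d hcop hF V.2 m
    obtain ⟨t, z, hz⟩ := isFinSum_of_isCompact hc V.2.isCompact s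
    refine ⟨t, z, ?_⟩
    rw [hz, map_sum]
    refine Finset.sum_congr rfl fun i _ => ?_
    have h1 : c.inj i ≫ d = φ i := Sigma.ι_desc _ _
    rw [← h1]
    rfl
  choose t z hz using hlift
  obtain ⟨C, π, hC, hCt⟩ := exists_common P hne hadd
    (T.biUnion fun V => (S V).biUnion fun m => t V m) A φ hA
  refine ⟨C, π, hC, FormalB.ModPowAff2.epi_of_affine_cover hF _ fun x => ?_⟩
  obtain ⟨V, hV, hx⟩ := hT x
  refine ⟨V, hx, V.2, surjective_of_span π _ _ (hS V) fun m hm => ?_⟩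
  have h1 : ∀ i ∈ t V m, ∃ y : Γ(C, (V : X.Opens)), π.app (V : X.Opens) y =
      (φ i).app (V : X.Opens) (z V m i) := by
    intro i hi
    obtain ⟨b, hb⟩ := hCt i (Finset.mem_biUnion.2 ⟨V, hV, Finset.mem_biUnion.2
      ⟨m, Finset.mem_coe.1 hm, hi⟩⟩)
    refine ⟨b.app (V : X.Opens) (z V m i), ?_⟩
    rw [← hb]
    rfl
  choose! y hy using h1
  refine ⟨∑ i ∈ t V m, y i, ?_⟩
  rw [map_sum]
  conv_rhs => rw [hz V m]
  exact Finset.sum_congr rfl fun i hi => hy i hi

end K237.GenEpi
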