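import Groth.Agent.DEquiv.K237.Theta
import Groth.Agent.Ega3B.DevQC
import Groth.Agent.CurvesC.UnitCoh

/-!
# Morphisms of perfect complexes over a cofiltered limit of schemes
-/

set_option autoImplicit false

universe u

open CategoryTheory CategoryTheory.Limits AlgebraicGeometry MonoidalCategory Opposite

attribute [local instance] HasDerivedCategory.standard

namespace K237.LimHom

section Colim

open Groth.Agent.PerfB.FiltSec Groth.Agent

lemma isIso_of_affine {X : Scheme.{u}} {M N : X.Modules} (φ : M ⟶ N)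
    (h : ∀ U : X.affineOpens, Function.Bijective (φ.app U.1)) : IsIso φ := by
  rw [← isIso_iff_of_reflects_iso _ (Scheme.Modules.toPresheaf X)]
  let F : TopCat.Sheaf Ab.{u} X := ⟨M.presheaf, M.isSheaf⟩
  let G : TopCat.Sheaf Ab.{u} X := ⟨N.presheaf, N.isSheaf⟩
  let ψ : F ⟶ G := ⟨φ.mapPresheaf⟩
  have : IsIso ψ := TopCat.Sheaf.isIso_iff_isIso_basis (B := fun U : X.affineOpens ↦ U.1)
      (by simpa using X.isBasis_affineOpens) (φ := ψ) fun i ↦ by
    rw [ConcreteCategory.isIso_iff_bijective]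
    exact h i
  exact @Functor.map_isIso _ _ _ _ _ _ (TopCat.Sheaf.forget Ab.{u} X) ψ this

variable {X : Scheme.{u}} [QuasiSeparatedSpace X] {J : Type u} [SmallCategory J] [IsFiltered J]
  {T : J ⥤ X.Modules} (c : Cocone T)

theorem isColimit_of_at (hi : ∀ V : X.Opens, IsAffineOpen V → InjAt c V)
    (hs : ∀ V : X.Opens, IsAffineOpen V → SurjAt c V) : Nonempty (IsColimit c) := by
  have hc := isColimitOfPreserves (PerfA.StalkExact.toSheafAb X) (colimit.isColimit T)
  have hd : ∀ j, colimit.ι T j ≫ colimit.desc T c = c.ι.app j := fun j => colimit.ι_desc c j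
  have key : IsIso (colimit.desc T c) := by
    refine isIso_of_affine _ fun U => ⟨?_, ?_⟩
    · rw [injective_iff_map_eq_zero]
      intro s hs0
      obtain ⟨j, t, ht⟩ := CohtopA.ColimSections.exists_rep_of_isCompact hc (U := U.1) U.2.isCompact s
      have ht : (colimit.ι T j).app U.1 t = s := ht
      have h0 : (leg c j).app U.1 t = 0 := by
        have h1 : (colimit.ι T j ≫ colimit.desc T c).app U.1 t = (c.ι.app j).app U.1 t := by rw [hd]
        refine h1.symm.trans ?_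
        change (colimit.desc T c).app U.1 ((colimit.ι T j).app U.1 t) = 0
        rw [ht]
        exact hs0
      obtain ⟨k, f, hk⟩ := hi U.1 U.2 j t h0
      have h2 : (T.map f ≫ colimit.ι T k).app U.1 t = (colimit.ι T j).app U.1 t := by rw [colimit.w]
      rw [← ht, ← h2]
      change (colimit.ι T k).app U.1 ((T.map f).app U.1 t) = 0
      rw [hk, map_zero]
    · intro s
      obtain ⟨j, t, ht⟩ := hs U.1 U.2 s
      refine ⟨(colimit.ι T j).app U.1 t, ?_⟩
      have h1 : (colimit.ι T j ≫ colimit.desc T c).app U.1 t = (c.ι.app j).app U.1 t := by rw [hd]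
      exact h1.trans ht
  exact ⟨IsColimit.ofPointIso (colimit.isColimit T) (i := key)⟩

end Colim

section Cmp

open Groth.Agent.Dcoh.DerPull Groth.Agent.Dcoh.DerSch Groth.Agent.Dual.H356 Groth.Agent.PerfB.PushPull
open Groth.Agent.Dcoh Functor.OplaxMonoidal K237.Theta
open scoped Groth.Agent.Dcoh.MonCat Groth.Agent.Dcoh.ModD Groth.Agent.Dcoh.MonPull Groth.Agent.Dual.H356.LpMon

attribute [local instance] K353.Calc.hasLpull K353.Calc.hasRpush

variable {X Y Z : Scheme.{u}} (q : X ⟶ Y) (f : Y ⟶ Z) (f' : X ⟶ Z) (h : q ≫ f = f')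

/-- `Lq^* Lf^* = L(qf)^*`. -/
noncomputable def cmpI : DCoh.Lpull f ⋙ DCoh.Lpull q ≅ DCoh.Lpull f' := by
  subst h
  exact lpullCompIso q f

instance isMonoidal_cmpI : NatTrans.IsMonoidal (cmpI q f f' h).hom := by
  subst h
  exact LpMon.isMonoidal_lpullCompIso q f

theorem mM_comp' :
    (cmpI q f f' h).hom.app ((Cont.S Z).obj (Am f (Coh.structureModule Z))) ≫
      (DCoh.Lpull f').map ((Cont.S Z).map (ppMap (Coh.structureModule Z) q f f' h)) ≫ mM f' =
    (DCoh.Lpull q).map (mM f) ≫ η (DCoh.Lpull q) := by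
  subst h
  exact mM_comp f q

theorem isQCoh_pullO : Coh.IsQCoh ((Scheme.Modules.pullback f).obj (Coh.structureModule Z)) := by
  have := Groth.Agent.CurvesC.UnitCoh.isQCoh_unit (X := Z)
  infer_instance

theorem isQCoh_am [IsAffineHom f] : Coh.IsQCoh (Am f (Coh.structureModule Z)) :=
  Groth.Agent.Ega3B.DevQC.isQCoh_push f (isQCoh_pullO f)

variable {q f f'}

theorem theta_bij [IsAffineHom f] (E F : DCoh.D Z) (hF : DCoh.IsQCohD F) :
    Function.Bijective (theta (DCoh.Lpull f) (mM f) :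
      (E ⟶ F ⊗ (Cont.S Z).obj (Am f (Coh.structureModule Z))) → _) :=
  theta_bijective (DCoh.Lpull f) (mM f) (DCoh.Rpush f) (lpullAdj f) (isIso_homEquiv_mM f (isQCoh_pullO f))
    (Groth.Agent.Dual.H379.DQMon.isIso_proj f F hF _ Groth.Agent.Dual.H379.DQMon.isQCohD_unit)

theorem theta_cmp (E F : DCoh.D Z) (y : E ⟶ F ⊗ (Cont.S Z).obj (Am f (Coh.structureModule Z))) :
    (DCoh.Lpull q).map (theta (DCoh.Lpull f) (mM f) y) ≫ (cmpI q f f' h).hom.app F =
      (cmpI q f f' h).hom.app E ≫ theta (DCoh.Lpull f') (mM f')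
        (y ≫ F ◁ (Cont.S Z).map (ppMap (Coh.structureModule Z) q f f' h)) :=
  theta_comp (DCoh.Lpull f) (DCoh.Lpull q) (DCoh.Lpull f') (cmpI q f f' h) _ (mM f) (mM f') (mM_comp' q f f' h) y

theorem theta_zero (E F : DCoh.D Z) :
    theta (DCoh.Lpull f) (mM f) (0 : E ⟶ F ⊗ (Cont.S Z).obj (Am f (Coh.structureModule Z))) = 0 := by
  let := lpullCommShift f
  have := lpull_isTriangulated f
  rw [theta, Functor.map_zero, zero_comp]

end Cmp

section Lim

open Groth.Agent.Dcoh.DerPull Groth.Agent.Dcoh.DerSch Groth.Agent.Dual.H356 Groth.Agent.PerfB.PushPull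
open Groth.Agent.Dcoh K237.Theta Groth.Agent.PerfB.LimMod Groth.Agent.PerfB.HomLim
open scoped Groth.Agent.Dcoh.MonCat Groth.Agent.Dcoh.ModD Groth.Agent.Dcoh.MonPull Groth.Agent.Dual.H356.LpMon

attribute [local instance] K353.Calc.hasLpull K353.Calc.hasRpush

variable {I : Type u} [SmallCategory I] [IsCofiltered I] {D : I ⥤ Scheme.{u}} {c : Cone D}
  [∀ (i j : I) (f : i ⟶ j), IsAffineHom (D.map f)] [∀ i, CompactSpace (D.obj i)]
  [∀ i, QuasiSeparatedSpace (D.obj i)] (hc : IsLimit c)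

include hc in
theorem isAffineHom_π (i : I) : IsAffineHom (c.π.app i) := (isLim hc i).affine'

include hc in
theorem isColimit_am (i : I) :
    Nonempty (IsColimit (cT (cop (postCone c i)) (Coh.structureModule (D.obj i)))) :=
  isColimit_of_at _ (fun V hV => injAt_T (isLim hc i) (Groth.Agent.CurvesC.UnitCoh.isQCoh_unit (X := D.obj i))
      (Groth.Agent.CurvesC.UnitCoh.isFiniteType_unit (X := D.obj i)) hV)
    (fun V hV => surjAt_T (isLim hc i) (Groth.Agent.CurvesC.UnitCoh.isQCoh_unit (X := D.obj i)) hV)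

include hc in
/-- Morphisms between pullbacks to the limit come from a stage. -/
theorem exists_hom (i : I) (E F : DCoh.D (D.obj i)) (hE : DCoh.IsPerfect E) (hF : DCoh.IsQCohD F)
    (φ : (DCoh.Lpull (c.π.app i)).obj E ⟶ (DCoh.Lpull (c.π.app i)).obj F) :
    ∃ (j : I) (a : j ⟶ i) (ψ : (DCoh.Lpull (D.map a)).obj E ⟶ (DCoh.Lpull (D.map a)).obj F),
      (DCoh.Lpull (c.π.app j)).map ψ ≫ (cmpI (c.π.app j) (D.map a) (c.π.app i) (c.w a)).hom.app F =
        (cmpI (c.π.app j) (D.map a) (c.π.app i) (c.w a)).hom.app E ≫ φ := by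
  have := isAffineHom_π hc i
  obtain ⟨y, rfl⟩ := (theta_bij (f := c.π.app i) E F hF).2 φ
  obtain ⟨h⟩ := isColimit_am hc i
  obtain ⟨j, z, hz⟩ := Cont.perf_surj h (fun j => isQCoh_am (D.map j.unop.hom)) (isQCoh_am (c.π.app i)) E F hE hF y
  refine ⟨j.unop.left, j.unop.hom, theta (DCoh.Lpull (D.map j.unop.hom)) (mM (D.map j.unop.hom)) z, ?_⟩
  subst hz
  exact theta_cmp (c.w j.unop.hom) E F z

include hc in
/-- Morphisms which vanish on the limit vanish at a stage. -/
theorem exists_zero (i : I) (E F : DCoh.D (D.obj i)) (hE : DCoh.IsPerfect E) (hF : DCoh.IsQCohD F)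
    (ψ : E ⟶ F) (hψ : (DCoh.Lpull (c.π.app i)).map ψ = 0) :
    ∃ (j : I) (a : j ⟶ i), (DCoh.Lpull (D.map a)).map ψ = 0 := by
  have := isAffineHom_π hc i
  obtain ⟨y, hy⟩ := (theta_bij (f := D.map (𝟙 i)) E F hF).2 ((DCoh.Lpull (D.map (𝟙 i))).map ψ)
  obtain ⟨h⟩ := isColimit_am hc i
  have h1 := theta_cmp (c.w (𝟙 i)) E F y
  rw [hy] at h1
  have h2 : (DCoh.Lpull (c.π.app i)).map ((DCoh.Lpull (D.map (𝟙 i))).map ψ) ≫
    (cmpI (c.π.app i) (D.map (𝟙 i)) (c.π.app i) (c.w (𝟙 i))).hom.app F = 0 := by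
    have := (cmpI (c.π.app i) (D.map (𝟙 i)) (c.π.app i) (c.w (𝟙 i))).hom.naturality ψ
    refine this.trans ?_
    rw [hψ, comp_zero]
  rw [h2] at h1
  have h3 : theta (DCoh.Lpull (c.π.app i)) (mM (c.π.app i))
        (y ≫ F ◁ (Cont.S (D.obj i)).map (ppMap (Coh.structureModule (D.obj i)) (c.π.app i) (D.map (𝟙 i)) (c.π.app i)
          (c.w (𝟙 i)))) = 0 := by
    rw [← cancel_epi ((cmpI (c.π.app i) (D.map (𝟙 i)) (c.π.app i) (c.w (𝟙 i))).hom.app E), comp_zero]
    exact h1.symm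
  have h4 := (theta_bij (f := c.π.app i) E F hF).1 (h3.trans (theta_zero E F).symm)
  obtain ⟨k, g, hg⟩ := Cont.perf_inj h (fun j => isQCoh_am (D.map j.unop.hom)) (isQCoh_am (c.π.app i))
    E F hE hF (op (Over.mk (𝟙 i))) y h4
  have e : k.unop.hom = g.unop.left ≫ 𝟙 i := (Over.w g.unop).symm
  refine ⟨k.unop.left, k.unop.hom, ?_⟩
  have e' : D.map g.unop.left ≫ D.map (𝟙 i) = D.map k.unop.hom := by rw [e, D.map_comp]
  have h5 := theta_cmp e' E F y
  have h6 : y ≫ F ◁ (Cont.S (D.obj i)).map (ppMap (Coh.structureModule (D.obj i)) (D.map g.unop.left)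
    (D.map (𝟙 i)) (D.map k.unop.hom) e') = 0 := hg
  rw [h6, theta_zero, comp_zero, hy] at h5
  have h7 := (cmpI (D.map g.unop.left) (D.map (𝟙 i)) (D.map k.unop.hom) e').hom.naturality ψ
  have h8 := h7.symm.trans h5
  rw [← cancel_epi ((cmpI (D.map g.unop.left) (D.map (𝟙 i)) (D.map k.unop.hom) e').hom.app E), comp_zero]
  exact h8

end Lim

end K237.LimHom
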