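import Groth.Agent.DEquiv.K237.LimHom
import Groth.Agent.PerfA.PerfThick
import Groth.Agent.PerfA.GenPull
import Groth.Agent.PerfB.CoprodDerived
import Groth.Agent.S1008
import Groth.Agent.S1079
import Groth.Agent.S0921

/-!
# Perfect complexes over a cofiltered limit of schemes come from a stage
-/

set_option autoImplicit false

universe u

open CategoryTheory CategoryTheory.Limits AlgebraicGeometry Opposite Pretriangulated

attribute [local instance] HasDerivedCategory.standard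

namespace K237.LimPerf

open K237.LimHom Groth.Agent.PerfB.BCShift
open scoped ZeroObject

attribute [local instance] K353.Calc.hasLpull K353.Calc.hasRpush lpullCommShift

variable {I : Type u} [SmallCategory I] [IsCofiltered I] {D : I ⥤ Scheme.{u}} {c : Cone D}
  [∀ (i j : I) (f : i ⟶ j), IsAffineHom (D.map f)] [∀ i, CompactSpace (D.obj i)]
  [∀ i, QuasiSeparatedSpace (D.obj i)] (hc : IsLimit c)

variable (c) in
/-- The pullback from the stage `i` to the limit. -/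
noncomputable abbrev P (i : I) : DCoh.D (D.obj i) ⥤ DCoh.D c.pt := DCoh.Lpull (c.π.app i)

variable (D) in
/-- The pullback from the stage `i` to the stage `j`. -/
noncomputable abbrev Q {i j : I} (a : j ⟶ i) : DCoh.D (D.obj i) ⥤ DCoh.D (D.obj j) := DCoh.Lpull (D.map a)

variable (c) in
/-- Change of stage. -/
noncomputable def chg {i j : I} (a : j ⟶ i) (E : DCoh.D (D.obj i)) : (P c j).obj ((Q D a).obj E) ≅ (P c i).obj E :=
  (cmpI (c.π.app j) (D.map a) (c.π.app i) (c.w a)).app E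

omit [IsCofiltered I] [∀ (i j : I) (f : i ⟶ j), IsAffineHom (D.map f)] [∀ i, CompactSpace (D.obj i)]
  [∀ i, QuasiSeparatedSpace (D.obj i)] in
theorem chg_nat {i j : I} (a : j ⟶ i) {E F : DCoh.D (D.obj i)} (ψ : E ⟶ F) :
    (P c j).map ((Q D a).map ψ) ≫ (chg c a F).hom = (chg c a E).hom ≫ (P c i).map ψ :=
  (cmpI (c.π.app j) (D.map a) (c.π.app i) (c.w a)).hom.naturality ψ

include hc in
theorem exists_lift {i : I} (E F : DCoh.D (D.obj i)) (hE : DCoh.IsPerfect E) (hF : DCoh.IsPerfect F)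
    {K M : DCoh.D c.pt} (α : (P c i).obj E ≅ K) (β : (P c i).obj F ≅ M) (φ : K ⟶ M) :
    ∃ (j : I) (a : j ⟶ i) (ψ : (Q D a).obj E ⟶ (Q D a).obj F),
      (P c j).map ψ ≫ (chg c a F ≪≫ β).hom = (chg c a E ≪≫ α).hom ≫ φ := by
  obtain ⟨j, a, ψ, h⟩ := exists_hom hc i E F hE (Groth.Agent.PerfA.QCohD.isQCohD_of_isPerfect _ hF)
    (α.hom ≫ φ ≫ β.inv)
  refine ⟨j, a, ψ, ?_⟩
  have h : (P c j).map ψ ≫ (chg c a F).hom = (chg c a E).hom ≫ α.hom ≫ φ ≫ β.inv := h
  rw [Iso.trans_hom, ← Category.assoc, h]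
  simp

include hc in
theorem exists_eq {i : I} (E F : DCoh.D (D.obj i)) (hE : DCoh.IsPerfect E) (hF : DCoh.IsPerfect F)
    (ψ ψ' : E ⟶ F) (h : (P c i).map ψ = (P c i).map ψ') :
    ∃ (j : I) (a : j ⟶ i), (Q D a).map ψ = (Q D a).map ψ' := by
  have h0 : (P c i).map (ψ - ψ') = 0 := by rw [Functor.map_sub, h, sub_self]
  obtain ⟨j, a, ha⟩ := exists_zero hc i E F hE (Groth.Agent.PerfA.QCohD.isQCohD_of_isPerfect _ hF) (ψ - ψ') h0
  refine ⟨j, a, ?_⟩
  rw [Functor.map_sub, sub_eq_zero] at ha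
  exact ha

omit [IsCofiltered I] [∀ (i j : I) (f : i ⟶ j), IsAffineHom (D.map f)] [∀ i, CompactSpace (D.obj i)]
  [∀ i, QuasiSeparatedSpace (D.obj i)] in
theorem isPerfect_Q {i j : I} (a : j ⟶ i) {E : DCoh.D (D.obj i)} (hE : DCoh.IsPerfect E) :
    DCoh.IsPerfect ((Q D a).obj E) := Groth.Agent.S0921.result _ _ hE

variable (D) in
/-- Composition of the transition functors. -/
noncomputable def QQ {i j k : I} (a : j ⟶ i) (b : k ⟶ j) (E : DCoh.D (D.obj i)) :
    (Q D b).obj ((Q D a).obj E) ≅ (Q D (b ≫ a)).obj E :=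
  (cmpI (D.map b) (D.map a) (D.map (b ≫ a)) (D.map_comp b a).symm).app E

include hc in
/-- Isomorphisms between pullbacks of perfect objects come from a stage. -/
theorem exists_iso {i : I} (E F : DCoh.D (D.obj i)) (hE : DCoh.IsPerfect E) (hF : DCoh.IsPerfect F)
    (φ : (P c i).obj E ≅ (P c i).obj F) :
    ∃ (j : I) (a : j ⟶ i), Nonempty ((Q D a).obj E ≅ (Q D a).obj F) := by
  obtain ⟨j, a, ψ, h⟩ := exists_lift hc E F hE hF (Iso.refl _) (Iso.refl _) φ.hom
  let α := chg c a E ≪≫ Iso.refl _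
  let β := chg c a F ≪≫ Iso.refl _
  let φ' : (P c j).obj ((Q D a).obj F) ≅ (P c j).obj ((Q D a).obj E) := β ≪≫ φ.symm ≪≫ α.symm
  have h : (P c j).map ψ ≫ β.hom = α.hom ≫ φ.hom := h
  have h1 : (P c j).map ψ ≫ φ'.hom = 𝟙 _ := by
    simp only [φ', Iso.trans_hom, reassoc_of% h]
    simp
  have h2 : φ'.hom ≫ (P c j).map ψ = 𝟙 _ := by
    have h3 : (P c j).map ψ = φ'.inv := by rw [← cancel_mono φ'.hom, h1, Iso.inv_hom_id]
    rw [h3, Iso.hom_inv_id]
  have hE' := isPerfect_Q (D := D) a hE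
  have hF' := isPerfect_Q (D := D) a hF
  obtain ⟨k, b, ψ', h'⟩ := exists_lift hc _ _ hF' hE' (Iso.refl _) (Iso.refl _) φ'.hom
  let α' := chg c b ((Q D a).obj E) ≪≫ Iso.refl _
  let β' := chg c b ((Q D a).obj F) ≪≫ Iso.refl _
  have h' : (P c k).map ψ' ≫ α'.hom = β'.hom ≫ φ'.hom := h'
  have h3 : (P c k).map ((Q D b).map ψ) ≫ β'.hom = α'.hom ≫ (P c j).map ψ := by
    simpa [α', β'] using chg_nat (c := c) b ψ
  have hE'' := isPerfect_Q (D := D) b hE'
  have hF'' := isPerfect_Q (D := D) b hF'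
  have h4 : (P c k).map ((Q D b).map ψ ≫ ψ') = (P c k).map (𝟙 _) := by
    rw [← cancel_mono α'.hom, Functor.map_comp, Category.assoc, h', reassoc_of% h3, h1, CategoryTheory.Functor.map_id,
      Category.id_comp, Category.comp_id]
  have h5 : (P c k).map (ψ' ≫ (Q D b).map ψ) = (P c k).map (𝟙 _) := by
    rw [← cancel_mono β'.hom, Functor.map_comp, Category.assoc, h3, reassoc_of% h', h2, CategoryTheory.Functor.map_id,
      Category.id_comp, Category.comp_id]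
  obtain ⟨l, d, hd⟩ := exists_eq hc _ _ hE'' hE'' _ _ h4
  obtain ⟨l', d', hd'⟩ := exists_eq hc _ _ hF'' hF'' _ _ h5
  obtain ⟨m, e, e', he⟩ := IsCofiltered.cospan d d'
  have h6 : (Q D (e ≫ d)).map ((Q D b).map ψ ≫ ψ') = 𝟙 _ := by
    have h7 := (cmpI (D.map e) (D.map d) (D.map (e ≫ d)) (D.map_comp e d).symm).hom.naturality
      ((Q D b).map ψ ≫ ψ')
    have h8 : (Q D e).map ((Q D d).map ((Q D b).map ψ ≫ ψ')) = 𝟙 _ := by
      rw [hd, CategoryTheory.Functor.map_id, CategoryTheory.Functor.map_id]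
    rw [← cancel_epi ((cmpI (D.map e) (D.map d) (D.map (e ≫ d)) (D.map_comp e d).symm).hom.app _)]
    refine h7.symm.trans ?_
    refine (congrArg (fun t => t ≫ _) h8).trans ?_
    exact (Category.id_comp _).trans (Category.comp_id _).symm
  have h9 : (Q D (e' ≫ d')).map (ψ' ≫ (Q D b).map ψ) = 𝟙 _ := by
    have h7 := (cmpI (D.map e') (D.map d') (D.map (e' ≫ d')) (D.map_comp e' d').symm).hom.naturality
      (ψ' ≫ (Q D b).map ψ)
    have h8 : (Q D e').map ((Q D d').map (ψ' ≫ (Q D b).map ψ)) = 𝟙 _ := by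
      rw [hd', CategoryTheory.Functor.map_id, CategoryTheory.Functor.map_id]
    rw [← cancel_epi ((cmpI (D.map e') (D.map d') (D.map (e' ≫ d')) (D.map_comp e' d').symm).hom.app _)]
    refine h7.symm.trans ?_
    refine (congrArg (fun t => t ≫ _) h8).trans ?_
    exact (Category.id_comp _).trans (Category.comp_id _).symm
  rw [← he] at h9
  rw [Functor.map_comp] at h6 h9
  exact ⟨m, (e ≫ d) ≫ b ≫ a, ⟨(QQ D (b ≫ a) (e ≫ d) E).symm ≪≫ (Q D (e ≫ d)).mapIso (QQ D a b E).symm ≪≫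
    ⟨(Q D (e ≫ d)).map ((Q D b).map ψ), (Q D (e ≫ d)).map ψ', h6, h9⟩ ≪≫
    (Q D (e ≫ d)).mapIso (QQ D a b F) ≪≫ QQ D (b ≫ a) (e ≫ d) F⟩⟩

variable (c) in
/-- Objects on the limit which come from a perfect object at a stage. -/
def Desc : ObjectProperty (DCoh.D c.pt) := fun K =>
  ∃ (i : I) (E : DCoh.D (D.obj i)), DCoh.IsPerfect E ∧ Nonempty ((P c i).obj E ≅ K)

omit [IsCofiltered I] [∀ (i j : I) (f : i ⟶ j), IsAffineHom (D.map f)] [∀ i, CompactSpace (D.obj i)]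
  [∀ i, QuasiSeparatedSpace (D.obj i)] in
theorem desc_shift (K : DCoh.D c.pt) (h : Desc c K) (n : ℤ) : Desc c (K⟦n⟧) := by
  obtain ⟨i, E, hE, ⟨e⟩⟩ := h
  exact ⟨i, E⟦n⟧, Groth.Agent.PerfA.PerfLocal.isPerfect_shift hE n,
    ⟨((P c i).commShiftIso n).app E ≪≫ (shiftFunctor _ n).mapIso e⟩⟩

include hc in
theorem desc_cone (T : Triangle (DCoh.D c.pt)) (hT : T ∈ distTriang _) (h₁ : Desc c T.obj₁) (h₂ : Desc c T.obj₂) :
    Desc c T.obj₃ := by
  obtain ⟨i₁, E₁, hE₁, ⟨e₁⟩⟩ := h₁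
  obtain ⟨i₂, E₂, hE₂, ⟨e₂⟩⟩ := h₂
  let i := IsCofiltered.min i₁ i₂
  let a₁ : i ⟶ i₁ := IsCofiltered.minToLeft i₁ i₂
  let a₂ : i ⟶ i₂ := IsCofiltered.minToRight i₁ i₂
  have hE : DCoh.IsPerfect ((Q D a₁).obj E₁) := isPerfect_Q a₁ hE₁
  have hF : DCoh.IsPerfect ((Q D a₂).obj E₂) := isPerfect_Q a₂ hE₂
  obtain ⟨j, a, ψ, h⟩ := exists_lift hc _ _ hE hF (chg c a₁ E₁ ≪≫ e₁) (chg c a₂ E₂ ≪≫ e₂) T.mor₁
  obtain ⟨C, g, d, hC⟩ := distinguished_cocone_triangle ψ
  have hE' := isPerfect_Q (D := D) a hE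
  have hF' := isPerfect_Q (D := D) a hF
  have hCp : DCoh.IsPerfect C :=
    (Groth.Agent.PerfA.PerfTri.perf (D.obj j)).ext_of_isTriangulatedClosed₃ _ hC hE' hF'
  have hC' := (P c j).map_distinguished _ hC
  let w := isoTriangleOfIso₁₂ _ _ hC' hT (chg c a _ ≪≫ chg c a₁ E₁ ≪≫ e₁) (chg c a _ ≪≫ chg c a₂ E₂ ≪≫ e₂) h
  exact ⟨j, C, hCp, ⟨Triangle.π₃.mapIso w⟩⟩

include hc in
theorem desc_retract {K L : DCoh.D c.pt} (r : Retract K L) (h : Desc c L) : Desc c K := by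
  obtain ⟨i, E, hE, ⟨e⟩⟩ := h
  obtain ⟨j, a, ψ, h⟩ := exists_lift hc _ _ hE hE e e (r.r ≫ r.i)
  let α : (P c j).obj ((Q D a).obj E) ≅ L := chg c a E ≪≫ e
  have h : (P c j).map ψ ≫ α.hom = α.hom ≫ r.r ≫ r.i := h
  have hE' := isPerfect_Q (D := D) a hE
  have h1 : (P c j).map (ψ ≫ ψ) = (P c j).map ψ := by
    rw [← cancel_mono α.hom, Functor.map_comp, Category.assoc, h, reassoc_of% h]
    simp
  obtain ⟨k, b, hb⟩ := exists_eq hc _ _ hE' hE' _ _ h1
  rw [Functor.map_comp] at hb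
  have hE'' := isPerfect_Q (D := D) b hE'
  have : IsIdempotentComplete (DCoh.D (D.obj k)) := Groth.Agent.S1079.result (Or.inl inferInstance)
  obtain ⟨Y, s, p, hsp, hps⟩ := IsIdempotentComplete.idempotents_split _ _ hb
  let γ : (P c k).obj ((Q D b).obj ((Q D a).obj E)) ≅ L := chg c b _ ≪≫ α
  have h2 : (P c k).map ((Q D b).map ψ) ≫ γ.hom = γ.hom ≫ r.r ≫ r.i := by
    simp only [γ, Iso.trans_hom, Category.assoc]
    rw [← h, ← Category.assoc, chg_nat, Category.assoc]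
  have h3 : (P c k).map p ≫ (P c k).map s = (P c k).map ((Q D b).map ψ) := by
    rw [← Functor.map_comp, hps]
  have h4 : (P c k).map s ≫ (P c k).map p = 𝟙 _ := by
    rw [← Functor.map_comp, hsp, CategoryTheory.Functor.map_id]
  refine ⟨k, Y, Groth.Agent.PerfA.PerfThick.isPerfect_of_retract s p hsp hE'', ⟨⟨(P c k).map s ≫ γ.hom ≫ r.r,
    r.i ≫ γ.inv ≫ (P c k).map p, ?_, ?_⟩⟩⟩
  · simp only [Category.assoc]
    rw [← reassoc_of% h2, Iso.hom_inv_id_assoc, ← h3, Category.assoc, h4, Category.comp_id, h4]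
  · simp only [Category.assoc]
    rw [reassoc_of% h3, reassoc_of% h2, Iso.inv_hom_id_assoc]
    simp

include hc in
theorem desc_isTriangulated : (Desc c).IsTriangulated where
  exists_zero := by
    obtain ⟨i⟩ := IsCofiltered.nonempty (C := I)
    exact ⟨(P c i).obj 0, (P c i).map_isZero (isZero_zero _), i, 0,
      Groth.Agent.PerfA.PerfLocal.isPerfect_of_isZero (isZero_zero _), ⟨Iso.refl _⟩⟩
  isStableUnderShiftBy n := ⟨fun K hK => desc_shift K hK n⟩
  ext₂' T hT h₁ h₃ := by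
    refine ObjectProperty.le_isoClosure _ _ ?_
    exact desc_cone hc _ (inv_rot_of_distTriang _ hT) (desc_shift _ h₃ (-1)) h₁

theorem compactSpace_pt (hc : IsLimit c) : CompactSpace c.pt := by
  obtain ⟨i⟩ := IsCofiltered.nonempty (C := I)
  have := isAffineHom_π hc i
  exact QuasiCompact.compactSpace_of_compactSpace (c.π.app i)

theorem quasiSeparatedSpace_pt (hc : IsLimit c) : QuasiSeparatedSpace c.pt := by
  obtain ⟨i⟩ := IsCofiltered.nonempty (C := I)
  have := isAffineHom_π hc i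
  exact quasiSeparatedSpace_of_quasiSeparated (c.π.app i)

include hc in
/-- Perfect objects on the limit come from a stage. -/
theorem exists_perfect (K : DCoh.D c.pt) (hK : DCoh.IsPerfect K) :
    ∃ (i : I) (E : DCoh.D (D.obj i)), DCoh.IsPerfect E ∧ Nonempty ((P c i).obj E ≅ K) := by
  obtain ⟨i⟩ := IsCofiltered.nonempty (C := I)
  have := isAffineHom_π hc i
  have := compactSpace_pt hc
  have := quasiSeparatedSpace_pt hc
  obtain ⟨G, hG, hgen⟩ := Groth.Agent.S1008.result (D.obj i)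
  have := desc_isTriangulated hc
  have : (Desc c).IsStableUnderRetracts := ⟨fun r h => desc_retract hc r h⟩
  exact Groth.Agent.PerfA.PerfThick.prop_of_isPerfect ((P c i).obj G) (Groth.Agent.S0921.result _ _ hG)
    (fun E hE h => Groth.Agent.PerfA.GenPull.generator_of_adj (c.π.app i) (P c i)
      (Groth.Agent.Dcoh.DerPull.lpullAdj (c.π.app i)) G (fun E hE => (hgen E hE).2) E hE h)
    (Desc c) ⟨i, G, hG, ⟨Iso.refl _⟩⟩ K hK

end K237.LimPerf
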