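import Groth.Agent.DEquiv.K237.SqBC
import Groth.Agent.DEquiv.K237.LimPerf
import Groth.Agent.Ega43.LimBC

/-!
# Kernels of relative equivalences over a cofiltered limit come from a stage
-/

set_option autoImplicit false

universe u

open CategoryTheory CategoryTheory.Limits AlgebraicGeometry

attribute [local instance] HasDerivedCategory.standard

namespace K237.LimKer

open K237.SqBC

/-- A family over a diagram of schemes with limit, cartesian over it. -/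
structure Fam {J : Type u} [SmallCategory J] (D : J ⥤ Scheme.{u}) (c : Cone D) where
  /-- the diagram -/
  A : J ⥤ Scheme.{u}
  /-- the structure morphisms -/
  α : A ⟶ D
  /-- the limit -/
  cA : Cone A
  /-- the structure morphism of the limit -/
  a : cA.pt ⟶ c.pt
  hα : ∀ {j k : J} (φ : j ⟶ k), IsPullback (A.map φ) (α.app j) (α.app k) (D.map φ)
  ha : ∀ j, IsPullback (cA.π.app j) a (α.app j) (c.π.app j)

variable {J : Type u} [SmallCategory J] {D : J ⥤ Scheme.{u}} {c : Cone D} (F G : Fam D c)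

/-- The fibre product of two families. -/
noncomputable def prodDiag : J ⥤ Scheme.{u} where
  obj j := pullback (F.α.app j) (G.α.app j)
  map φ := gm (F.hα φ) (G.hα φ)
  map_id j := by
    apply pullback.hom_ext
    · rw [gm_fst, Category.id_comp, F.A.map_id, Category.comp_id]
    · rw [gm_snd, Category.id_comp, G.A.map_id, Category.comp_id]
  map_comp φ ψ := by
    apply pullback.hom_ext
    · rw [gm_fst, Category.assoc, gm_fst, ← Category.assoc, gm_fst, F.A.map_comp, Category.assoc]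
    · rw [gm_snd, Category.assoc, gm_snd, ← Category.assoc, gm_snd, G.A.map_comp, Category.assoc]

/-- Its limit cone. -/
noncomputable def prodCone : Cone (prodDiag F G) where
  pt := pullback F.a G.a
  π :=
    { app := fun j => gm (F.ha j) (G.ha j)
      naturality := fun j k φ => by
        apply pullback.hom_ext
        · change (𝟙 _ ≫ gm (F.ha k) (G.ha k)) ≫ _ = (gm (F.ha j) (G.ha j) ≫ gm (F.hα φ) (G.hα φ)) ≫ _
          rw [Category.id_comp, gm_fst, Category.assoc, gm_fst, ← Category.assoc, gm_fst, Category.assoc, F.cA.w]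
        · change (𝟙 _ ≫ gm (F.ha k) (G.ha k)) ≫ _ = (gm (F.ha j) (G.ha j) ≫ gm (F.hα φ) (G.hα φ)) ≫ _
          rw [Category.id_comp, gm_snd, Category.assoc, gm_snd, ← Category.assoc, gm_snd, Category.assoc, G.cA.w] }

/-- The projection to the base. -/
noncomputable def prodProj : prodDiag F G ⟶ D where
  app j := pullback.fst (F.α.app j) (G.α.app j) ≫ F.α.app j
  naturality j k φ := (gm_isPullback (F.hα φ) (G.hα φ)).w

/-- The cone is a limit cone. -/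
noncomputable def isLimitProdCone [IsConnected J] (hc : IsLimit c) : IsLimit (prodCone F G) :=
  isLimitOfIsPullbackOfIsConnected (prodProj F G) _ c
    { hom := pullback.fst F.a G.a ≫ F.a
      w := fun j => (gm_isPullback (F.ha j) (G.ha j)).w.symm }
    (fun j => gm_isPullback (F.ha j) (G.ha j)) hc

instance isAffineHom_map [∀ (i j : J) (f : i ⟶ j), IsAffineHom (D.map f)] (i j : J) (f : i ⟶ j) :
    IsAffineHom ((prodDiag F G).map f) :=
  MorphismProperty.of_isPullback (P := @IsAffineHom) (gm_isPullback (F.hα f) (G.hα f)).flip inferInstance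

theorem compactSpace_obj [∀ j, CompactSpace (D.obj j)] [∀ j, QuasiCompact (F.α.app j)]
    [∀ j, QuasiCompact (G.α.app j)] (j : J) : CompactSpace ((prodDiag F G).obj j) := by
  have h : CompactSpace ↥(pullback (F.α.app j) (G.α.app j)) :=
    QuasiCompact.compactSpace_of_compactSpace (pullback.fst (F.α.app j) (G.α.app j) ≫ F.α.app j)
  exact h

theorem quasiSeparatedSpace_obj [∀ j, QuasiSeparatedSpace (D.obj j)] [∀ j, QuasiSeparated (F.α.app j)]
    [∀ j, QuasiSeparated (G.α.app j)] (j : J) : QuasiSeparatedSpace ((prodDiag F G).obj j) := by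
  have h : QuasiSeparatedSpace ↥(pullback (F.α.app j) (G.α.app j)) :=
    quasiSeparatedSpace_of_quasiSeparated (pullback.fst (F.α.app j) (G.α.app j) ≫ F.α.app j)
  exact h

section Main

attribute [local instance] K353.Calc.hasLpull K353.Calc.hasRpush Groth.Agent.Dcoh.ModTens.hasLTensorCx

open K237.LimPerf Groth.Agent

variable [IsCofiltered J] [∀ (i j : J) (f : i ⟶ j), IsAffineHom (D.map f)] [∀ j, CompactSpace (D.obj j)]
  [∀ j, QuasiSeparatedSpace (D.obj j)] (hc : IsLimit c)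
  [∀ j, Smooth (F.α.app j)] [∀ j, IsProper (F.α.app j)] [∀ j, Smooth (G.α.app j)] [∀ j, IsProper (G.α.app j)]

/-- The composite kernel at a stage. -/
noncomputable abbrev cv {S X Y : Scheme.{u}} (a : X ⟶ S) (b : Y ⟶ S) (K : CochainComplex (pullback a b).Modules ℤ)
    (K' : CochainComplex (pullback b a).Modules ℤ) : DCoh.D (pullback a a) :=
  FMK.conv a b a K ((FMK.cxPull (FMK.p23 a b a)).obj K')

include hc in
theorem exists_iso [Flat F.a] [QuasiCompact G.a] [QuasiSeparated G.a] [Flat G.a] [IsSeparated F.a]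
    (K : CochainComplex (pullback F.a G.a).Modules ℤ) (K' : CochainComplex (pullback G.a F.a).Modules ℤ)
    (e : FMK.diagO F.a ≅ cv F.a G.a K K') (j : J)
    (Kj : CochainComplex (pullback (F.α.app j) (G.α.app j)).Modules ℤ)
    (Kj' : CochainComplex (pullback (G.α.app j) (F.α.app j)).Modules ℤ)
    (hKj : DCoh.IsPerfect (DCoh.toD _ Kj)) (hKj' : DCoh.IsPerfect (DCoh.toD _ Kj'))
    (eK : DCoh.toD _ K ≅ (DCoh.Lpull (gm (F.ha j) (G.ha j))).obj (DCoh.toD _ Kj))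
    (eK' : DCoh.toD _ K' ≅ (DCoh.Lpull (gm (G.ha j) (F.ha j))).obj (DCoh.toD _ Kj')) :
    ∃ (k : J) (φ : k ⟶ j), Nonempty ((DCoh.Lpull (gm (F.hα φ) (F.hα φ))).obj (FMK.diagO (F.α.app j)) ≅
      (DCoh.Lpull (gm (F.hα φ) (F.hα φ))).obj (cv (F.α.app j) (G.α.app j) Kj Kj')) := by
  have h1 : DCoh.IsPerfect (FMK.diagO (F.α.app j)) := isPerfect_diagO _
  have h2 : DCoh.IsPerfect (cv (F.α.app j) (G.α.app j) Kj Kj') := isPerfect_conv _ _ hKj hKj'
  obtain ⟨d⟩ := diagO_pull (F.ha j)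
  obtain ⟨t⟩ := conv_perf (F.ha j) (G.ha j) (F.ha j) Kj Kj' hKj hKj' K eK K' eK'
  have := IsCofiltered.isConnected J
  have i1 := compactSpace_obj F F
  have i2 := quasiSeparatedSpace_obj F F
  obtain ⟨k, φ, ⟨w⟩⟩ := LimPerf.exists_iso (D := prodDiag F F) (c := prodCone F F) (isLimitProdCone F F hc) (i := j)
    (FMK.diagO (F.α.app j)) (cv (F.α.app j) (G.α.app j) Kj Kj') h1 h2 (d ≪≫ e ≪≫ t.symm)
  exact ⟨k, φ, ⟨w⟩⟩

include hc in
theorem exists_ker (K : DCoh.D (pullback F.a G.a)) (hK : DCoh.IsPerfect K) :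
    ∃ (j : J) (E : DCoh.D (pullback (F.α.app j) (G.α.app j))), DCoh.IsPerfect E ∧
      Nonempty ((DCoh.Lpull (gm (F.ha j) (G.ha j))).obj E ≅ K) := by
  have := IsCofiltered.isConnected J
  have i1 := compactSpace_obj F G
  have i2 := quasiSeparatedSpace_obj F G
  exact LimPerf.exists_perfect (D := prodDiag F G) (c := prodCone F G) (isLimitProdCone F G hc) K hK

/-- The transition functors compose. -/
theorem pull_pull {j k l : J} (φ : k ⟶ j) (ψ : l ⟶ k) :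
    Nonempty (DCoh.Lpull (gm (F.hα φ) (G.hα φ)) ⋙ DCoh.Lpull (gm (F.hα ψ) (G.hα ψ)) ≅
      DCoh.Lpull (gm (F.hα (ψ ≫ φ)) (G.hα (ψ ≫ φ)))) :=
  K353.Calc.lpull_comp _ _ _ ((prodDiag F G).map_comp ψ φ).symm

/-- The transition from the limit composes. -/
theorem pull_pull' {j k : J} (φ : k ⟶ j) :
    Nonempty (DCoh.Lpull (gm (F.hα φ) (G.hα φ)) ⋙ DCoh.Lpull (gm (F.ha k) (G.ha k)) ≅
      DCoh.Lpull (gm (F.ha j) (G.ha j))) :=
  K353.Calc.lpull_comp _ _ _ ((prodCone F G).w φ)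

/-- One half of the relative equivalence at a late stage. -/
theorem half_stage {j k l : J} (φ : k ⟶ j) (ψ : l ⟶ k)
    (Kj : CochainComplex (pullback (F.α.app j) (G.α.app j)).Modules ℤ)
    (Kj' : CochainComplex (pullback (G.α.app j) (F.α.app j)).Modules ℤ)
    (hKj : DCoh.IsPerfect (DCoh.toD _ Kj)) (hKj' : DCoh.IsPerfect (DCoh.toD _ Kj'))
    (h : Nonempty ((DCoh.Lpull (gm (F.hα φ) (F.hα φ))).obj (FMK.diagO (F.α.app j)) ≅
      (DCoh.Lpull (gm (F.hα φ) (F.hα φ))).obj (cv (F.α.app j) (G.α.app j) Kj Kj')))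
    (Kl : CochainComplex (pullback (F.α.app l) (G.α.app l)).Modules ℤ)
    (Kl' : CochainComplex (pullback (G.α.app l) (F.α.app l)).Modules ℤ)
    (eK : DCoh.toD _ Kl ≅ (DCoh.Lpull (gm (F.hα (ψ ≫ φ)) (G.hα (ψ ≫ φ)))).obj (DCoh.toD _ Kj))
    (eK' : DCoh.toD _ Kl' ≅ (DCoh.Lpull (gm (G.hα (ψ ≫ φ)) (F.hα (ψ ≫ φ)))).obj (DCoh.toD _ Kj')) :
    Nonempty (FMK.diagO (F.α.app l) ≅ cv (F.α.app l) (G.α.app l) Kl Kl') := by
  obtain ⟨w⟩ := h
  obtain ⟨d⟩ := diagO_pull (F.hα (ψ ≫ φ))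
  obtain ⟨t⟩ := conv_perf (F.hα (ψ ≫ φ)) (G.hα (ψ ≫ φ)) (F.hα (ψ ≫ φ)) Kj Kj' hKj hKj' Kl eK Kl' eK'
  obtain ⟨m⟩ := pull_pull F F φ ψ
  exact ⟨d.symm ≪≫ (m.app _).symm ≪≫ (DCoh.Lpull (gm (F.hα ψ) (F.hα ψ))).mapIso w ≪≫ m.app _ ≪≫ t⟩

include hc in
/-- **Kernels of relative equivalences over a limit come from a stage.** -/
theorem main [Smooth F.a] [IsProper F.a] [Smooth G.a] [IsProper G.a]
    (K : CochainComplex (pullback F.a G.a).Modules ℤ) (hK : FMK.IsRelEquivKernel F.a G.a K) :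
    ∃ (j : J) (Kj : CochainComplex (pullback (F.α.app j) (G.α.app j)).Modules ℤ),
      FMK.IsRelEquivKernel (F.α.app j) (G.α.app j) Kj := by
  obtain ⟨hK, K', hK', ⟨e1⟩, ⟨e2⟩⟩ := hK
  obtain ⟨j₁, E₁, hE₁, ⟨w₁⟩⟩ := exists_ker F G hc (DCoh.toD _ K) hK
  obtain ⟨j₂, E₂, hE₂, ⟨w₂⟩⟩ := exists_ker G F hc (DCoh.toD _ K') hK'
  let j := IsCofiltered.min j₁ j₂
  let φ₁ : j ⟶ j₁ := IsCofiltered.minToLeft j₁ j₂
  let φ₂ : j ⟶ j₂ := IsCofiltered.minToRight j₁ j₂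
  let Kj : CochainComplex (pullback (F.α.app j) (G.α.app j)).Modules ℤ :=
    DerivedCategory.Q.objPreimage ((DCoh.Lpull (gm (F.hα φ₁) (G.hα φ₁))).obj E₁)
  have eKj : DCoh.toD _ Kj ≅ (DCoh.Lpull (gm (F.hα φ₁) (G.hα φ₁))).obj E₁ :=
    DerivedCategory.Q.objObjPreimageIso _
  let Kj' : CochainComplex (pullback (G.α.app j) (F.α.app j)).Modules ℤ :=
    DerivedCategory.Q.objPreimage ((DCoh.Lpull (gm (G.hα φ₂) (F.hα φ₂))).obj E₂)
  have eKj' : DCoh.toD _ Kj' ≅ (DCoh.Lpull (gm (G.hα φ₂) (F.hα φ₂))).obj E₂ :=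
    DerivedCategory.Q.objObjPreimageIso _
  have hKj : DCoh.IsPerfect (DCoh.toD _ Kj) := PerfA.PerfLocal.isPerfect_of_iso eKj.symm (S0921.result _ _ hE₁)
  have hKj' : DCoh.IsPerfect (DCoh.toD _ Kj') := PerfA.PerfLocal.isPerfect_of_iso eKj'.symm (S0921.result _ _ hE₂)
  obtain ⟨m₁⟩ := pull_pull' F G φ₁
  obtain ⟨m₂⟩ := pull_pull' G F φ₂
  have eK : DCoh.toD _ K ≅ (DCoh.Lpull (gm (F.ha j) (G.ha j))).obj (DCoh.toD _ Kj) :=
    w₁.symm ≪≫ (m₁.app E₁).symm ≪≫ (DCoh.Lpull (gm (F.ha j) (G.ha j))).mapIso eKj.symm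
  have eK' : DCoh.toD _ K' ≅ (DCoh.Lpull (gm (G.ha j) (F.ha j))).obj (DCoh.toD _ Kj') :=
    w₂.symm ≪≫ (m₂.app E₂).symm ≪≫ (DCoh.Lpull (gm (G.ha j) (F.ha j))).mapIso eKj'.symm
  obtain ⟨k, φ, h⟩ := exists_iso F G hc K K' e1 j Kj Kj' hKj hKj' eK eK'
  obtain ⟨k', φ', h'⟩ := exists_iso G F hc K' K e2 j Kj' Kj hKj' hKj eK' eK
  obtain ⟨l, ψ, ψ', hψ⟩ := IsCofiltered.cospan φ φ'
  let Kl : CochainComplex (pullback (F.α.app l) (G.α.app l)).Modules ℤ :=
    DerivedCategory.Q.objPreimage ((DCoh.Lpull (gm (F.hα (ψ ≫ φ)) (G.hα (ψ ≫ φ)))).obj (DCoh.toD _ Kj))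
  have eKl : DCoh.toD _ Kl ≅ (DCoh.Lpull (gm (F.hα (ψ ≫ φ)) (G.hα (ψ ≫ φ)))).obj (DCoh.toD _ Kj) :=
    DerivedCategory.Q.objObjPreimageIso _
  let Kl' : CochainComplex (pullback (G.α.app l) (F.α.app l)).Modules ℤ :=
    DerivedCategory.Q.objPreimage ((DCoh.Lpull (gm (G.hα (ψ ≫ φ)) (F.hα (ψ ≫ φ)))).obj (DCoh.toD _ Kj'))
  have eKl' : DCoh.toD _ Kl' ≅ (DCoh.Lpull (gm (G.hα (ψ ≫ φ)) (F.hα (ψ ≫ φ)))).obj (DCoh.toD _ Kj') :=
    DerivedCategory.Q.objObjPreimageIso _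
  refine ⟨l, Kl, PerfA.PerfLocal.isPerfect_of_iso eKl.symm (S0921.result _ _ hKj), Kl',
    PerfA.PerfLocal.isPerfect_of_iso eKl'.symm (S0921.result _ _ hKj'),
    half_stage F G φ ψ Kj Kj' hKj hKj' h Kl Kl' eKl eKl', ?_⟩
  have key : ∀ χ : l ⟶ j, χ = ψ ≫ φ →
      Nonempty (DCoh.toD _ Kl ≅ (DCoh.Lpull (gm (F.hα χ) (G.hα χ))).obj (DCoh.toD _ Kj)) ∧
      Nonempty (DCoh.toD _ Kl' ≅ (DCoh.Lpull (gm (G.hα χ) (F.hα χ))).obj (DCoh.toD _ Kj')) := by
    rintro _ rfl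
    exact ⟨⟨eKl⟩, ⟨eKl'⟩⟩
  obtain ⟨⟨s⟩, ⟨s'⟩⟩ := key (ψ' ≫ φ') hψ.symm
  exact half_stage G F φ' ψ' Kj' Kj hKj' hKj h' Kl' Kl s' s

end Main

end K237.LimKer
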