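import Groth.Agent.DEquiv.K353.RelEqBC
import Groth.Agent.Dual.H339.PerfPush
import Groth.Agent.Dcoh.PerfTens
import Groth.Agent.S1002
import Groth.Agent.S1676

/-!
# Base change of composite kernels along arbitrary cartesian squares
-/

set_option autoImplicit false

universe u

open CategoryTheory CategoryTheory.Limits AlgebraicGeometry MonoidalCategory

attribute [local instance] HasDerivedCategory.standard

open scoped Groth.Agent.Dcoh.MonCat Groth.Agent.Dcoh.ModD

namespace K237.SqBC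

open Groth.Agent K353 K353.OnSub K353.Calc K353.Conv K353.Diag K353.ConvPull K353.RelEq

variable {S S' X Y Z X' Y' Z' : Scheme.{u}} {a : X ⟶ S} {b : Y ⟶ S} {c : Z ⟶ S} {g : S' ⟶ S}
  {p : X' ⟶ X} {a' : X' ⟶ S'} {q : Y' ⟶ Y} {b' : Y' ⟶ S'} {r : Z' ⟶ Z} {c' : Z' ⟶ S'}
  (ha : IsPullback p a' a g) (hb : IsPullback q b' b g) (hc : IsPullback r c' c g)

/-- The map of double products of cartesian squares. -/
noncomputable def gm : pullback a' b' ⟶ pullback a b :=
  pullback.map a' b' a b p q g ha.w.symm hb.w.symm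

lemma gm_fst : gm ha hb ≫ pullback.fst a b = pullback.fst a' b' ≫ p := pullback.lift_fst _ _ _

lemma gm_snd : gm ha hb ≫ pullback.snd a b = pullback.snd a' b' ≫ q := pullback.lift_snd _ _ _

lemma gm_isPullback_fst : IsPullback (gm ha hb) (pullback.fst a' b') (pullback.fst a b) p := by
  have s1 : IsPullback (pullback.snd a' b' ≫ q) (pullback.fst a' b') b (a' ≫ g) :=
    ((IsPullback.of_hasPullback a' b').paste_vert hb.flip).flip
  have s2 : IsPullback (gm ha hb ≫ pullback.snd a b) (pullback.fst a' b') b (p ≫ a) := by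
    rw [gm_snd, ha.w]
    exact s1
  exact IsPullback.of_bot s2.flip (gm_fst ha hb).symm (IsPullback.of_hasPullback a b) |>.flip

lemma gm_isPullback : IsPullback (gm ha hb) (pullback.fst a' b' ≫ a') (pullback.fst a b ≫ a) g :=
  (gm_isPullback_fst ha hb).paste_vert ha

/-- The map of triple products. -/
noncomputable def tm : FMK.T a' b' c' ⟶ FMK.T a b c :=
  (p13_isPullback a b c).lift (FMK.p13 _ _ _ ≫ gm ha hc) (FMK.p12 _ _ _ ≫ gm ha hb) (by
    rw [Category.assoc, Category.assoc, gm_fst, gm_fst, FMK.p13_fst_assoc])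

lemma tm_p13 : tm ha hb hc ≫ FMK.p13 a b c = FMK.p13 _ _ _ ≫ gm ha hc :=
  (p13_isPullback a b c).lift_fst _ _ _

lemma tm_p12 : tm ha hb hc ≫ FMK.p12 a b c = FMK.p12 _ _ _ ≫ gm ha hb :=
  (p13_isPullback a b c).lift_snd _ _ _

lemma tm_p23 : tm ha hb hc ≫ FMK.p23 a b c = FMK.p23 _ _ _ ≫ gm hb hc := by
  apply pullback.hom_ext
  · have h : FMK.p23 a b c ≫ pullback.fst b c = FMK.p12 a b c ≫ pullback.snd a b := pullback.condition.symm
    rw [Category.assoc, Category.assoc, h, reassoc_of% (tm_p12 ha hb hc), gm_snd, gm_fst, ← Category.assoc,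
      ← Category.assoc]
    congr 1
    exact pullback.condition
  · rw [Category.assoc, Category.assoc, ← FMK.p13_snd, reassoc_of% (tm_p13 ha hb hc), gm_snd, gm_snd,
      FMK.p13_snd_assoc]

lemma tm_isPullback : IsPullback (tm ha hb hc) (FMK.p13 a' b' c') (FMK.p13 a b c) (gm ha hc) := by
  have s1 := (p13_isPullback a' b' c').flip.paste_horiz (gm_isPullback_fst ha hb)
  rw [← tm_p12 ha hb hc, ← gm_fst ha hc] at s1
  exact IsPullback.of_right s1 (tm_p13 ha hb hc) (p13_isPullback a b c).flip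

set_option maxHeartbeats 1000000 in
/-- **Base change of composite kernels.** -/
theorem conv_pull [Flat b] [QuasiCompact b] [QuasiSeparated b]
    (K : CochainComplex (pullback a b).Modules ℤ) (M : DCoh.D (pullback b c))
    (hK : DCoh.IsQCohD (DCoh.toD _ K)) (hM : DCoh.IsQCohD M)
    [DCoh.HasLpull (FMK.p12 a b c)] [DCoh.HasLpull (FMK.p23 a b c)] [DCoh.HasRpush (FMK.p13 a b c)]
    (L : CochainComplex (FMK.T a b c).Modules ℤ) [DCoh.HasLTensorCx L]
    (eL : DCoh.toD _ L ≅ (DCoh.Lpull (FMK.p23 a b c)).obj M)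
    [DCoh.HasLpull (gm ha hb)] [DCoh.HasLpull (gm hb hc)] [DCoh.HasLpull (gm ha hc)]
    (K₁ : CochainComplex (pullback a' b').Modules ℤ)
    (eK : DCoh.toD _ K₁ ≅ (DCoh.Lpull (gm ha hb)).obj (DCoh.toD _ K))
    [DCoh.HasLpull (FMK.p12 a' b' c')] [DCoh.HasLpull (FMK.p23 a' b' c')] [DCoh.HasRpush (FMK.p13 a' b' c')]
    (L₁ : CochainComplex (FMK.T a' b' c').Modules ℤ) [DCoh.HasLTensorCx L₁]
    (eL₁ : DCoh.toD _ L₁ ≅ (DCoh.Lpull (FMK.p23 a' b' c')).obj ((DCoh.Lpull (gm hb hc)).obj M)) :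
    Nonempty ((DCoh.Lpull (gm ha hc)).obj (FMK.conv a b c K L) ≅ FMK.conv a' b' c' K₁ L₁) := by
  have := hasLpull (tm ha hb hc)
  have q1 : QuasiCompact (FMK.p13 a b c) := MorphismProperty.of_isPullback (p13_isPullback a b c).flip
    (inferInstance : QuasiCompact (pullback.fst a b))
  have q2 : QuasiSeparated (FMK.p13 a b c) := MorphismProperty.of_isPullback (p13_isPullback a b c).flip
    (inferInstance : QuasiSeparated (pullback.fst a b))
  have hfl : Flat (FMK.p13 a b c) ∨ Flat (gm ha hc) :=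
    Or.inl (MorphismProperty.of_isPullback (p13_isPullback a b c).flip
        (inferInstance : Flat (pullback.fst a b)))
  obtain ⟨e1⟩ := conv_iso a b c K L _ eL
  obtain ⟨e2⟩ := conv_iso _ _ _ K₁ L₁ _ eL₁
  have hC := qc_tensor _ _ (qc_lpull (FMK.p12 a b c) _ hK) (qc_lpull (FMK.p23 a b c) _ hM)
  obtain ⟨e3⟩ := (bc hfl (tm_isPullback ha hb hc)).app hC
  obtain ⟨e4⟩ := lpull_tensor (tm ha hb hc) ((DCoh.Lpull (FMK.p23 a b c)).obj M)
  obtain ⟨e5⟩ := lpull_sq (tm ha hb hc) (FMK.p12 a b c) (FMK.p12 _ _ _) (gm ha hb) (tm_p12 ha hb hc)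
  obtain ⟨e6⟩ := lpull_sq (tm ha hb hc) (FMK.p23 a b c) (FMK.p23 _ _ _) (gm hb hc) (tm_p23 ha hb hc)
  refine ⟨(DCoh.Lpull (gm ha hc)).mapIso e1 ≪≫ e3 ≪≫ (DCoh.Rpush (FMK.p13 _ _ _)).mapIso
    (e4.app _ ≪≫ (e5.app _ ≪≫ (DCoh.Lpull (FMK.p12 _ _ _)).mapIso eK.symm ⊗ᵢ e6.app _)) ≪≫ e2.symm⟩

/-- The base change of `Δ_* O_X`. -/
theorem diagO_pull [Flat a] [IsSeparated a] [DCoh.HasLpull (gm ha ha)] :
    Nonempty ((DCoh.Lpull (gm ha ha)).obj (FMK.diagO a) ≅ FMK.diagO a') := by
  have hY : IsPullback (gm ha ha) (pullback.fst a' a' ≫ a') (pullback.fst a a ≫ a) g := gm_isPullback ha ha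
  have : IsSeparated a' := MorphismProperty.of_isPullback ha inferInstance
  have hZ : IsPullback p (pullback.diagonal a') (pullback.diagonal a) (gm ha ha) := by
    refine IsPullback.of_bot ?_ ?_ (gm_isPullback_fst ha ha)
    · rw [pullback.diagonal_fst, pullback.diagonal_fst]
      exact IsPullback.of_vert_isIso ⟨by rw [Category.comp_id, Category.id_comp]⟩
    · apply pullback.hom_ext
      · rw [Category.assoc, Category.assoc, pullback.diagonal_fst, gm_fst, pullback.diagonal_fst_assoc,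
          Category.comp_id]
      · rw [Category.assoc, Category.assoc, pullback.diagonal_snd, gm_snd, pullback.diagonal_snd_assoc,
          Category.comp_id]
  have f1 : Flat (pullback.diagonal a ≫ pullback.fst a a ≫ a) := by
    rw [pullback.diagonal_fst_assoc]
    infer_instance
  have b1 : PreservesFiniteColimits (Scheme.Modules.pushforward (pullback.diagonal a)) :=
    Sga67.ClosedPush.preservesFiniteColimits_pushforward _
  have b2 : PreservesFiniteColimits (Scheme.Modules.pushforward (pullback.diagonal a')) :=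
    Sga67.ClosedPush.preservesFiniteColimits_pushforward _
  obtain ⟨e⟩ := Dual.H353.DiagBC.nonempty_iso (pullback.diagonal a) (pullback.fst a a ≫ a) hY hZ
  exact ⟨(DCoh.Lpull (gm ha ha)).mapIso
      ((Dual.H353.Arrow.pushSingle (pullback.diagonal a) 0).app (Coh.structureModule X)).symm ≪≫ e ≪≫
    (Dual.H353.Arrow.pushSingle (pullback.diagonal a') 0).app (Coh.structureModule _)⟩

/-- The base change of a composite kernel of perfect kernels. -/
theorem conv_perf [Flat a] [Flat b] [QuasiCompact b] [QuasiSeparated b] [Flat c] [Flat a']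
    (K : CochainComplex (pullback a b).Modules ℤ) (K' : CochainComplex (pullback b c).Modules ℤ)
    (hK : DCoh.IsPerfect (DCoh.toD _ K)) (hK' : DCoh.IsPerfect (DCoh.toD _ K'))
    [DCoh.HasLpull (FMK.p12 a b c)] [DCoh.HasRpush (FMK.p13 a b c)]
    [DCoh.HasLTensorCx ((FMK.cxPull (FMK.p23 a b c)).obj K')]
    [DCoh.HasLpull (gm ha hb)] [DCoh.HasLpull (gm hb hc)] [DCoh.HasLpull (gm ha hc)]
    (K₁ : CochainComplex (pullback a' b').Modules ℤ)
    (eK : DCoh.toD _ K₁ ≅ (DCoh.Lpull (gm ha hb)).obj (DCoh.toD _ K))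
    (K₁' : CochainComplex (pullback b' c').Modules ℤ)
    (eK' : DCoh.toD _ K₁' ≅ (DCoh.Lpull (gm hb hc)).obj (DCoh.toD _ K'))
    [DCoh.HasLpull (FMK.p12 a' b' c')] [DCoh.HasRpush (FMK.p13 a' b' c')]
    [DCoh.HasLTensorCx ((FMK.cxPull (FMK.p23 a' b' c')).obj K₁')] :
    Nonempty ((DCoh.Lpull (gm ha hc)).obj (FMK.conv a b c K ((FMK.cxPull (FMK.p23 a b c)).obj K')) ≅
      FMK.conv a' b' c' K₁ ((FMK.cxPull (FMK.p23 a' b' c')).obj K₁')) := by
  have := hasLpull (FMK.p23 a b c)
  have := hasLpull (FMK.p23 a' b' c')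
  have f1 : Flat (FMK.p23 a b c) := inferInstance
  have f2 : Flat (FMK.p23 a' b' c') := inferInstance
  obtain ⟨i⟩ := cxPull_iso (FMK.p23 a b c) K'
  obtain ⟨j⟩ := cxPull_iso (FMK.p23 a' b' c') K₁'
  exact conv_pull ha hb hc K (DCoh.toD _ K') (qc_perf hK) (qc_perf hK') _ i K₁ eK _
    (j ≪≫ (DCoh.Lpull (FMK.p23 a' b' c')).mapIso eK')

/-- The composite kernel is perfect. -/
theorem isPerfect_conv [Flat a] [IsProper b] [Flat b] [LocallyOfFinitePresentation b]
    (K : CochainComplex (pullback a b).Modules ℤ) (K' : CochainComplex (pullback b c).Modules ℤ)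
    (hK : DCoh.IsPerfect (DCoh.toD _ K)) (hK' : DCoh.IsPerfect (DCoh.toD _ K'))
    [DCoh.HasLpull (FMK.p12 a b c)] [DCoh.HasRpush (FMK.p13 a b c)]
    [DCoh.HasLTensorCx ((FMK.cxPull (FMK.p23 a b c)).obj K')] :
    DCoh.IsPerfect (FMK.conv a b c K ((FMK.cxPull (FMK.p23 a b c)).obj K')) := by
  have := hasLpull (FMK.p23 a b c)
  obtain ⟨i⟩ := cxPull_iso (FMK.p23 a b c) K'
  obtain ⟨e⟩ := conv_iso a b c K _ _ i
  have h1 : IsProper (FMK.p13 a b c) := MorphismProperty.of_isPullback (p13_isPullback a b c).flip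
    (inferInstance : IsProper (pullback.fst a b))
  have h2 : Flat (FMK.p13 a b c) := MorphismProperty.of_isPullback (p13_isPullback a b c).flip
    (inferInstance : Flat (pullback.fst a b))
  have h3 : LocallyOfFinitePresentation (FMK.p13 a b c) := MorphismProperty.of_isPullback (p13_isPullback a b c).flip
    (inferInstance : LocallyOfFinitePresentation (pullback.fst a b))
  refine PerfA.PerfLocal.isPerfect_of_iso e.symm ?_
  exact S1002.result (FMK.p13 a b c) _ (Dcoh.PerfTens.isPerfect_tensor (S0921.result _ _ hK) (S0921.result _ _ hK'))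

/-- `Δ_* O_X` is perfect for a smooth separated morphism. -/
theorem isPerfect_diagO (a : X ⟶ S) [Smooth a] [IsSeparated a] : DCoh.IsPerfect (FMK.diagO a) := by
  have := hasRpush (pullback.diagonal a)
  obtain ⟨e⟩ := PerfC.RpushCoh.nonempty_closed (pullback.diagonal a) (Coh.structureModule X)
  exact PerfA.PerfLocal.isPerfect_of_iso e
    (Dual.H339.PerfPush.isPerfect_push (pullback.diagonal a)
      (S1676.result (pullback.fst a a) (pullback.diagonal a) (pullback.diagonal_fst a)))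

end K237.SqBC
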