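import Groth.Agent.DEquiv.K237.Cont
import Groth.Agent.Dual.H356.LpMon
import Groth.Agent.Dual.H379.ModVia
import Groth.Agent.PerfB.BCPush
import Groth.Agent.PerfB.HomLimSec
import Groth.Agent.PerfB.LimMod
import Groth.Agent.PerfC.AffPushD
import Groth.Agent.Dcoh.FreeSec
import Groth.Agent.Dcoh.DualX
import Groth.Agent.Dual.H360.ProjAff
import Groth.Agent.Fixpt.H12.PullMon

/-!
# Morphisms between pullbacks along an affine morphism
-/

set_option autoImplicit false

universe u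

open CategoryTheory CategoryTheory.Limits AlgebraicGeometry MonoidalCategory

attribute [local instance] HasDerivedCategory.standard

namespace K237.Theta

section Abstract

open Functor.OplaxMonoidal Functor.LaxMonoidal Groth.Agent.Dual.H379

variable {C D D' : Type*} [Category C] [Category D] [Category D'] [MonoidalCategory C] [MonoidalCategory D]
  [MonoidalCategory D'] (L : C ⥤ D) [L.Monoidal]

/-- `Hom(E, F ⊗ M) → Hom(L E, L F)` for `m : L M ⟶ 1`. -/
def theta {E F M : C} (m : L.obj M ⟶ 𝟙_ D) (y : E ⟶ F ⊗ M) : L.obj E ⟶ L.obj F :=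
  L.map y ≫ δ L F M ≫ (L.obj F ◁ m) ≫ (ρ_ _).hom

theorem theta_bijective {E F M : C} (m : L.obj M ⟶ 𝟙_ D) (R : D ⥤ C) (adj : L ⊣ R)
    (hm : IsIso (adj.homEquiv _ _ m)) (hp : IsIso (ModVia.proj L adj F (𝟙_ D))) :
    Function.Bijective (theta L m : (E ⟶ F ⊗ M) → _) := by
  have h1 : ∀ y : E ⟶ F ⊗ M, adj.homEquiv _ _ (theta L m y) =
      y ≫ (F ◁ adj.homEquiv _ _ m) ≫ ModVia.proj L adj F (𝟙_ D) ≫ R.map (ρ_ (L.obj F)).hom := by
    intro y
    have h2 : (F ◁ adj.homEquiv _ _ m) ≫ ModVia.proj L adj F (𝟙_ D) ≫ R.map (ρ_ (L.obj F)).hom =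
        adj.homEquiv _ _ (δ L F M ≫ (L.obj F ◁ m) ≫ (ρ_ (L.obj F)).hom) := by
      rw [ModVia.proj, ← Adjunction.homEquiv_naturality_right, ← Adjunction.homEquiv_naturality_left]
      refine congrArg _ ?_
      have h5 : L.map (adj.homEquiv _ _ m) ≫ adj.counit.app (𝟙_ D) = m := by
        simp [Adjunction.homEquiv_unit]
      have h6 := δ_natural_right L F (adj.homEquiv _ _ m)
      rw [Category.assoc, ← reassoc_of% h6, ← MonoidalCategory.whiskerLeft_comp_assoc, h5]
    rw [h2, ← Adjunction.homEquiv_naturality_left]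
    rfl
  have h3 : IsIso ((F ◁ adj.homEquiv _ _ m) ≫ ModVia.proj L adj F (𝟙_ D) ≫ R.map (ρ_ (L.obj F)).hom) := inferInstance
  let i := @asIso _ _ _ _ ((F ◁ adj.homEquiv _ _ m) ≫ ModVia.proj L adj F (𝟙_ D) ≫ R.map (ρ_ (L.obj F)).hom) h3
  have h4 : (theta L m : (E ⟶ F ⊗ M) → _) = (adj.homEquiv _ _).symm ∘ (fun y => y ≫ i.hom) := by
    funext y
    rw [Function.comp_apply, Equiv.eq_symm_apply, h1]
    rfl
  rw [h4]
  exact (adj.homEquiv _ _).symm.bijective.comp i.homToEquiv.bijective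

theorem theta_comp (Q : D ⥤ D') [Q.Monoidal] (L' : C ⥤ D') [L'.Monoidal] (c : L ⋙ Q ≅ L')
    [NatTrans.IsMonoidal c.hom] {E F M M' : C} (g : M ⟶ M') (m : L.obj M ⟶ 𝟙_ D) (m' : L'.obj M' ⟶ 𝟙_ D')
    (h : c.hom.app M ≫ L'.map g ≫ m' = Q.map m ≫ η Q) (y : E ⟶ F ⊗ M) :
    Q.map (theta L m y) ≫ c.hom.app F = c.hom.app E ≫ theta L' m' (y ≫ F ◁ g) := by
  have h1 : c.hom.app (F ⊗ M) ≫ δ L' F M = Q.map (δ L F M) ≫ δ Q (L.obj F) (L.obj M) ≫
      (c.hom.app F ⊗ₘ c.hom.app M) := by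
    have := Groth.Agent.Fixpt.H12.PullMon.iso_δ c F M
    rw [this, comp_δ]
    exact Category.assoc _ _ _
  have h2 : L'.map (F ◁ g) ≫ δ L' F M' = δ L' F M ≫ L'.obj F ◁ L'.map g := (δ_natural_right L' F g).symm
  have h3 : c.hom.app E ≫ L'.map y = Q.map (L.map y) ≫ c.hom.app (F ⊗ M) := (c.hom.naturality y).symm
  have h4 : (c.hom.app F ⊗ₘ c.hom.app M) ≫ L'.obj F ◁ L'.map g ≫ L'.obj F ◁ m' =
      ((Q.obj (L.obj F)) ◁ (Q.map m ≫ η Q)) ≫ c.hom.app F ▷ (𝟙_ D') := by
    rw [whisker_exchange, MonoidalCategory.tensorHom_def, Category.assoc, ← MonoidalCategory.whiskerLeft_comp,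
      ← MonoidalCategory.whiskerLeft_comp, h]
    rfl
  have h5 : Q.map (L.obj F ◁ m) ≫ Q.map (ρ_ (L.obj F)).hom =
      δ Q (L.obj F) (L.obj M) ≫ (Q.obj (L.obj F) ◁ (Q.map m ≫ η Q)) ≫ (ρ_ _).hom := by
    have := Functor.OplaxMonoidal.δ_natural_right Q (L.obj F) m
    rw [MonoidalCategory.whiskerLeft_comp, Category.assoc, reassoc_of% this]
    simp
  simp only [theta, Functor.map_comp, Category.assoc]
  rw [reassoc_of% h3, reassoc_of% h2, reassoc_of% h1, reassoc_of% h4, rightUnitor_naturality, reassoc_of% h5]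

end Abstract

section ModLevel

open Groth.Agent.Flat2F.BCSec Groth.Agent.VarietyB.PullSec Groth.Agent.PerfB.PushPull

variable {X W W' : Scheme.{u}}

/-- The counit on sections. -/
theorem counit_sec (a : W ⟶ X) (N : W.Modules) (U : X.Opens)
    (s : Γ((Scheme.Modules.pushforward a).obj N, U)) :
    ((Scheme.Modules.pullbackPushforwardAdjunction a).counit.app N).app (a ⁻¹ᵁ U)
      (sec a ((Scheme.Modules.pushforward a).obj N) le_rfl s) = s := by
  have h2 : sec a ((Scheme.Modules.pushforward a).obj N) (le_refl (a ⁻¹ᵁ U)) s =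
      ((Scheme.Modules.pullbackPushforwardAdjunction a).unit.app _).app U s := by
    rw [sec_apply]
    exact Groth.Agent.Fdesc.QCohStalk.map_self _ _ _
  rw [h2]
  exact congr(($((Scheme.Modules.pullbackPushforwardAdjunction a).right_triangle_components N)).app U s)

variable (k : W' ⟶ W) (a : W ⟶ X) (a' : W' ⟶ X) (h : k ≫ a = a') (E : X.Modules)

/-- `A_a = a_* a^* E`. -/
noncomputable abbrev Am : X.Modules := (Scheme.Modules.pushforward a).obj ((Scheme.Modules.pullback a).obj E)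

/-- The counit `a^* a_* a^* E ⟶ a^* E`. -/
noncomputable abbrev ep : (Scheme.Modules.pullback a).obj (Am a E) ⟶ (Scheme.Modules.pullback a).obj E :=
  (Scheme.Modules.pullbackPushforwardAdjunction a).counit.app _

theorem mod_compat : (cmp k a a' h (Am a E)).hom ≫ (Scheme.Modules.pullback a').map (ppMap E k a a' h) ≫ ep a' E =
    (Scheme.Modules.pullback k).map (ep a E) ≫ (cmp k a a' h E).hom := by
  rw [← Iso.eq_inv_comp]
  apply hom_ext_pullback
  intro U s
  have h1 : sec a' (Am a E) (le_refl (a' ⁻¹ᵁ U)) s = tr k a a' h (Am a E) (preimage_le h U)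
    (sec a (Am a E) (le_refl (a ⁻¹ᵁ U)) s) := (tr_sec k a a' h (Am a E) (preimage_le h U) le_rfl le_rfl s).symm
  have h2 : ((Scheme.Modules.pullback a').map (ppMap E k a a' h) ≫ ep a' E).app (a' ⁻¹ᵁ U)
      (sec a' (Am a E) (le_refl (a' ⁻¹ᵁ U)) s) = tr k a a' h E (preimage_le h U) s := by
    rw [Scheme.Modules.Hom.comp_app]
    change (ep a' E).app (a' ⁻¹ᵁ U) (((Scheme.Modules.pullback a').map (ppMap E k a a' h)).app (a' ⁻¹ᵁ U)
      (sec a' (Am a E) (le_refl (a' ⁻¹ᵁ U)) s)) = _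
    rw [map_sec, counit_sec]
    exact ppMap_app k a a' h U s
  rw [h2, h1]
  have h4 : ((cmp k a a' h (Am a E)).inv ≫ (Scheme.Modules.pullback k).map (ep a E) ≫ (cmp k a a' h E).hom).app
      (a' ⁻¹ᵁ U) ((cmp k a a' h (Am a E)).hom.app (a' ⁻¹ᵁ U) (sec k _ (preimage_le h U)
        (sec a (Am a E) (le_refl (a ⁻¹ᵁ U)) s))) =
      (cmp k a a' h E).hom.app (a' ⁻¹ᵁ U) (((Scheme.Modules.pullback k).map (ep a E)).app (a' ⁻¹ᵁ U)
        (sec k _ (preimage_le h U) (sec a (Am a E) (le_refl (a ⁻¹ᵁ U)) s))) := by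
    have h3 : ((cmp k a a' h (Am a E)).inv ≫ (Scheme.Modules.pullback k).map (ep a E) ≫ (cmp k a a' h E).hom).app
      (a' ⁻¹ᵁ U) ((cmp k a a' h (Am a E)).hom.app (a' ⁻¹ᵁ U) (sec k _ (preimage_le h U)
        (sec a (Am a E) (le_refl (a ⁻¹ᵁ U)) s))) =
      ((cmp k a a' h (Am a E)).hom ≫ (cmp k a a' h (Am a E)).inv ≫ (Scheme.Modules.pullback k).map (ep a E) ≫
        (cmp k a a' h E).hom).app (a' ⁻¹ᵁ U) (sec k _ (preimage_le h U)
        (sec a (Am a E) (le_refl (a ⁻¹ᵁ U)) s)) := rfl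
    refine h3.trans ?_
    rw [Iso.hom_inv_id_assoc]
    rfl
  have h5 : ((Scheme.Modules.pullback k).map (ep a E)).app (a' ⁻¹ᵁ U)
        (sec k _ (preimage_le h U) (sec a (Am a E) (le_refl (a ⁻¹ᵁ U)) s)) =
      sec k _ (preimage_le h U) s := by
    rw [map_sec, counit_sec]
  have h6 : (cmp k a a' h E).hom.app (a' ⁻¹ᵁ U) (((Scheme.Modules.pullback k).map (ep a E)).app (a' ⁻¹ᵁ U)
        (sec k _ (preimage_le h U) (sec a (Am a E) (le_refl (a ⁻¹ᵁ U)) s))) =
      tr k a a' h E (preimage_le h U) s := by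
    rw [h5]; rfl
  exact (h4.trans h6).symm

end ModLevel

section Single

open Groth.Agent.Dcoh.DerPull Groth.Agent.Dcoh.DerSch Groth.Agent.Dual.H356 Groth.Agent.Dual.H356.CxMon

variable {X Y : Scheme.{u}} (f : X ⟶ Y)

/-- `f^*` of a module in degree zero. -/
noncomputable def sI : CochainComplex.singleFunctor Y.Modules 0 ⋙
      (Scheme.Modules.pullback f).mapHomologicalComplex (ComplexShape.up ℤ) ≅
    Scheme.Modules.pullback f ⋙ CochainComplex.singleFunctor X.Modules 0 :=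
  HomologicalComplex.singleMapHomologicalComplex (Scheme.Modules.pullback f) (ComplexShape.up ℤ) 0

/-- `Lf^* M ⟶ f^* M` for a module. -/
noncomputable def cM [DCoh.HasLpull f] : Cont.S Y ⋙ DCoh.Lpull f ⟶ Scheme.Modules.pullback f ⋙ Cont.S X :=
  Functor.whiskerLeft (CochainComplex.singleFunctor Y.Modules 0) (lpullCounitQ f) ≫
    Functor.whiskerRight (sI f).hom DerivedCategory.Q

theorem cM_app [DCoh.HasLpull f] (M : Y.Modules) :
    (cM f).app M = (lpullCounitQ f).app ((CochainComplex.singleFunctor Y.Modules 0).obj M) ≫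
      DerivedCategory.Q.map ((sI f).hom.app M) := rfl

theorem isIso_cM_app [DCoh.HasLpull f] (M : Y.Modules) (hM : FlatMod.IsFlat M) : IsIso ((cM f).app M) := by
  have : IsIso ((lpullCounitQ f).app ((CochainComplex.singleFunctor Y.Modules 0).obj M)) :=
    isIso_lpullCounitQ_app f _ (Groth.Agent.Dcoh.KFlatMod.isKFlat_single M hM 0)
  rw [cM_app]
  infer_instance

omit f in
lemma aux₁ {A B : Type*} [Category A] [Category B] (G : A ⥤ B) {x y z : A} {u v : B} (a : x ⟶ y) (b : z ≅ y)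
    (c : u ≅ G.obj y) (p : G.obj y ⟶ v) :
    G.map a ≫ p = G.map (a ≫ b.inv) ≫ (G.map b.hom ≫ c.inv) ≫ c.hom ≫ p := by
  simp

omit f in
lemma aux₂ {C : Type*} [Category C] {A B D E F G H I J : C} {x : A ⟶ B} {y : B ⟶ D} {a : A ⟶ E} {b : E ⟶ F}
    {c : F ⟶ D} {d : D ⟶ G} {e : F ⟶ H} {k : H ⟶ I} {l : I ⟶ G} {m : E ⟶ J} {n : J ⟶ H}
    (h1 : x ≫ y = a ≫ b ≫ c) (h3 : c ≫ d = e ≫ k ≫ l) (h2 : m ≫ n = b ≫ e) :
    x ≫ (y ≫ d) = (a ≫ m) ≫ (n ≫ k) ≫ l := by
  rw [reassoc_of% h1, h3]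
  simp only [Category.assoc]
  rw [reassoc_of% h2]

theorem sI_comp {X' : Scheme.{u}} (q : X' ⟶ X) (M : Y.Modules) :
    (compTrans (Scheme.Modules.pullback f) (Scheme.Modules.pullback q) (Scheme.Modules.pullback (q ≫ f))
        (Scheme.Modules.pullbackComp q f).hom).app ((CochainComplex.singleFunctor Y.Modules 0).obj M) ≫
      (sI (q ≫ f)).hom.app M =
    ((Scheme.Modules.pullback q).mapHomologicalComplex (ComplexShape.up ℤ)).map ((sI f).hom.app M) ≫
      (sI q).hom.app _ ≫ (CochainComplex.singleFunctor X'.Modules 0).map ((Scheme.Modules.pullbackComp q f).hom.app M) := by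
  refine HomologicalComplex.to_single_hom_ext ?_
  have e1 := fun (Z : Scheme.{u}) (g : Z ⟶ Y) => HomologicalComplex.singleMapHomologicalComplex_hom_app_self
    (Scheme.Modules.pullback g) (ComplexShape.up ℤ) 0 M
  have e2 := HomologicalComplex.singleMapHomologicalComplex_hom_app_self
    (Scheme.Modules.pullback q) (ComplexShape.up ℤ) 0 ((Scheme.Modules.pullback f).obj M)
  have e3 := compTrans_app_f (Scheme.Modules.pullback f) (Scheme.Modules.pullback q) (Scheme.Modules.pullback (q ≫ f))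
        (Scheme.Modules.pullbackComp q f).hom ((CochainComplex.singleFunctor Y.Modules 0).obj M) 0
  have e4 := HomologicalComplex.single_map_f_self (c := ComplexShape.up ℤ) (0 : ℤ)
    ((Scheme.Modules.pullbackComp q f).hom.app M)
  have e5 := (Scheme.Modules.pullbackComp q f).hom.naturality
    (HomologicalComplex.singleObjXSelf (ComplexShape.up ℤ) (0 : ℤ) M).hom
  refine (congrArg₂ (fun a b => a ≫ b) e3 (e1 _ (q ≫ f))).trans ?_
  refine Eq.trans ?_ (congrArg₂ (fun a b => a ≫ b) (congrArg (Scheme.Modules.pullback q).map (e1 _ f).symm)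
    (congrArg₂ (fun a b => a ≫ b) e2.symm e4.symm))
  refine (Category.assoc _ _ _).symm.trans ((congrArg (fun t => t ≫ _) e5.symm).trans ((Category.assoc _ _ _).trans ?_))
  exact aux₁ (Scheme.Modules.pullback q) _ _ _ _

/-- Compatibility of `cM` with composition. -/
theorem cM_comp {X' : Scheme.{u}} (q : X' ⟶ X) [DCoh.HasLpull f] [DCoh.HasLpull q] [DCoh.HasLpull (q ≫ f)]
    (M : Y.Modules) :
    (lpullCompIso q f).hom.app ((Cont.S Y).obj M) ≫ (cM (q ≫ f)).app M =
      (DCoh.Lpull q).map ((cM f).app M) ≫ (cM q).app _ ≫ (Cont.S X').map ((Scheme.Modules.pullbackComp q f).hom.app M) := by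
  have h1 := LpMon.lpullCompIso_hom_Q q f ((CochainComplex.singleFunctor Y.Modules 0).obj M)
  have h2 := (lpullCounitQ q).naturality ((sI f).hom.app M)
  rw [cM_app, cM_app, cM_app, Functor.map_comp]
  have h3 := congrArg DerivedCategory.Q.map (sI_comp f q M)
  rw [Functor.map_comp, Functor.map_comp, Functor.map_comp] at h3
  exact aux₂ h1 h3 h2

end Single

section Mf

open Groth.Agent.Dcoh.DerPull Groth.Agent.Dcoh.DerSch Groth.Agent.Dual.H356 Groth.Agent.PerfB.PushPull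
open Groth.Agent.Dcoh Functor.OplaxMonoidal
open scoped Groth.Agent.Dcoh.MonCat Groth.Agent.Dcoh.ModD Groth.Agent.Dcoh.MonPull Groth.Agent.Dual.H356.LpMon

variable {X Y : Scheme.{u}} (f : X ⟶ Y)

omit f in
lemma aux₃ {C : Type*} [Category C] {A B D E F G H I J K L M : C} {x : A ⟶ B} {y : B ⟶ D} {w' : D ⟶ E}
    {c'O : E ⟶ F} {c'A' : D ⟶ G} {e' : G ⟶ F} {c'A : B ⟶ H} {g' : H ⟶ G} {LcA : A ⟶ I} {cqA : I ⟶ J}
    {compA : J ⟶ H} {qep : J ⟶ K} {compO : K ⟶ F} {Lep : I ⟶ L} {cqO : L ⟶ K} {xO : M ⟶ E} {LcO : M ⟶ L}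
    {Lw : A ⟶ M} (h1 : w' ≫ c'O = c'A' ≫ e') (h2 : y ≫ c'A' = c'A ≫ g') (h3 : x ≫ c'A = LcA ≫ cqA ≫ compA)
    (h5 : compA ≫ g' ≫ e' = qep ≫ compO) (h6 : Lep ≫ cqO = cqA ≫ qep) (h4 : xO ≫ c'O = LcO ≫ cqO ≫ compO)
    (h7 : Lw ≫ LcO = LcA ≫ Lep) : (x ≫ y ≫ w') ≫ c'O = (Lw ≫ xO) ≫ c'O := by
  simp only [Category.assoc]
  rw [h1, reassoc_of% h2, reassoc_of% h3, h5, h4, reassoc_of% h7, reassoc_of% h6]

omit f in
lemma aux₄ {C : Type*} [Category C] {A B D E F G H I J : C} {x : A ⟶ B} {y : B ⟶ D} {w' : D ⟶ E}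
    {u' : E ⟶ F} {n' : F ⟶ G} {Lw : A ⟶ H} {xO : H ⟶ E} {Lu : H ⟶ I} {x1 : I ⟶ F} {Ln : I ⟶ J} {n : J ⟶ G}
    (h1 : x ≫ y ≫ w' = Lw ≫ xO) (h2 : Lu ≫ x1 = xO ≫ u') (h3 : x1 ≫ n' = Ln ≫ n) :
    x ≫ y ≫ w' ≫ u' ≫ n' = (Lw ≫ Lu ≫ Ln) ≫ n := by
  simp only [Category.assoc]
  rw [reassoc_of% h1, ← reassoc_of% h2, h3]

instance isIso_cM_unit [DCoh.HasLpull f] : IsIso ((cM f).app (Coh.structureModule Y)) :=
  isIso_cM_app f _ (fun x => Module.Flat.of_linearEquiv (Groth.Agent.Dcoh.FreeSec.stalkUnit x).symm)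

/-- `Lf^* (f_* f^* O) ⟶ Lf^* O`. -/
noncomputable def wM [DCoh.HasLpull f] : (DCoh.Lpull f).obj ((Cont.S Y).obj (Am f (Coh.structureModule Y))) ⟶
    (DCoh.Lpull f).obj ((Cont.S Y).obj (Coh.structureModule Y)) :=
  (cM f).app (Am f (Coh.structureModule Y)) ≫ (Cont.S X).map (ep f (Coh.structureModule Y)) ≫
    inv ((cM f).app (Coh.structureModule Y))

/-- `Lf^* (f_* f^* O) ⟶ 1`. -/
noncomputable def mM [DCoh.HasLpull f] : (DCoh.Lpull f).obj ((Cont.S Y).obj (Am f (Coh.structureModule Y))) ⟶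
    𝟙_ (DCoh.D X) :=
  wM f ≫ (DCoh.Lpull f).map (DualX.unitIso Y).hom ≫ η (DCoh.Lpull f)

theorem wM_comp {X' : Scheme.{u}} (q : X' ⟶ X) [DCoh.HasLpull f] [DCoh.HasLpull q] [DCoh.HasLpull (q ≫ f)] :
    (lpullCompIso q f).hom.app ((Cont.S Y).obj (Am f (Coh.structureModule Y))) ≫
      (DCoh.Lpull (q ≫ f)).map ((Cont.S Y).map (ppMap (Coh.structureModule Y) q f (q ≫ f) rfl)) ≫ wM (q ≫ f) =
    (DCoh.Lpull q).map (wM f) ≫ (lpullCompIso q f).hom.app ((Cont.S Y).obj (Coh.structureModule Y)) := by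
  rw [← cancel_mono ((cM (q ≫ f)).app (Coh.structureModule Y))]
  have h1 : wM (q ≫ f) ≫ (cM (q ≫ f)).app (Coh.structureModule Y) =
    (cM (q ≫ f)).app (Am (q ≫ f) (Coh.structureModule Y)) ≫
      (Cont.S X').map (ep (q ≫ f) (Coh.structureModule Y)) := by
    simp [wM]
  have h1' : wM f ≫ (cM f).app (Coh.structureModule Y) =
    (cM f).app (Am f (Coh.structureModule Y)) ≫ (Cont.S X).map (ep f (Coh.structureModule Y)) := by
    simp [wM]
  have h2 := (cM (q ≫ f)).naturality (ppMap (Coh.structureModule Y) q f (q ≫ f) rfl)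
  have h3 := cM_comp f q (Am f (Coh.structureModule Y))
  have h4 := cM_comp f q (Coh.structureModule Y)
  have h5 := mod_compat q f (q ≫ f) rfl (Coh.structureModule Y)
  have h6 := (cM q).naturality (ep f (Coh.structureModule Y))
  rw [Groth.Agent.Flat2F.BCSec.cmp_rfl, Groth.Agent.Flat2F.BCSec.cmp_rfl] at h5
  have h5' := congrArg (Cont.S X').map h5
  rw [Functor.map_comp, Functor.map_comp, Functor.map_comp] at h5'
  have h7 := congrArg (DCoh.Lpull q).map h1'
  rw [Functor.map_comp, Functor.map_comp] at h7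
  exact aux₃ h1 h2 h3 h5' h6 h4 h7

/-- Compatibility of `mM` with composition. -/
theorem mM_comp {X' : Scheme.{u}} (q : X' ⟶ X) [DCoh.HasLpull f] [DCoh.HasLpull q] [DCoh.HasLpull (q ≫ f)] :
    (lpullCompIso q f).hom.app ((Cont.S Y).obj (Am f (Coh.structureModule Y))) ≫
      (DCoh.Lpull (q ≫ f)).map ((Cont.S Y).map (ppMap (Coh.structureModule Y) q f (q ≫ f) rfl)) ≫ mM (q ≫ f) =
    (DCoh.Lpull q).map (mM f) ≫ η (DCoh.Lpull q) := by
  have h1 := wM_comp f q
  have h2 := (lpullCompIso q f).hom.naturality (DualX.unitIso Y).hom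
  have := LpMon.isMonoidal_lpullCompIso q f
  have h3 := Groth.Agent.Fixpt.H12.PullMon.iso_η (lpullCompIso q f)
  rw [comp_η] at h3
  unfold mM
  rw [Functor.map_comp, Functor.map_comp]
  exact aux₄ h1 h2 h3

/-- `f_*` of a module in degree zero. -/
noncomputable def sP : CochainComplex.singleFunctor X.Modules 0 ⋙
      (Scheme.Modules.pushforward f).mapHomologicalComplex (ComplexShape.up ℤ) ≅
    Scheme.Modules.pushforward f ⋙ CochainComplex.singleFunctor Y.Modules 0 :=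
  HomologicalComplex.singleMapHomologicalComplex (Scheme.Modules.pushforward f) (ComplexShape.up ℤ) 0

omit f in
lemma aux₅ {A B : Type*} [Category A] [Category B] (F : A ⥤ B) (G : B ⥤ A) (adj : F ⊣ G) {N K : B} {T : A} {Z : B}
    (a : T ≅ G.obj N) (b : K ≅ N) (c : Z ≅ F.obj (G.obj N)) :
    F.map (a.hom ≫ G.map b.inv) ≫ adj.counit.app K =
      (F.map a.hom ≫ c.inv) ≫ c.hom ≫ adj.counit.app N ≫ b.inv := by
  simp

theorem counit_single (N : X.Modules) :
    ((Scheme.Modules.pullback f).mapHomologicalComplex (ComplexShape.up ℤ)).map ((sP f).inv.app N) ≫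
      (Groth.Agent.PerfB.BCPush.cAdj f).counit.app ((CochainComplex.singleFunctor X.Modules 0).obj N) =
    (sI f).hom.app ((Scheme.Modules.pushforward f).obj N) ≫
      (CochainComplex.singleFunctor X.Modules 0).map
        ((Scheme.Modules.pullbackPushforwardAdjunction f).counit.app N) := by
  refine HomologicalComplex.to_single_hom_ext ?_
  have e1 := HomologicalComplex.singleMapHomologicalComplex_inv_app_self
    (Scheme.Modules.pushforward f) (ComplexShape.up ℤ) 0 N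
  have e2 := HomologicalComplex.singleMapHomologicalComplex_hom_app_self
    (Scheme.Modules.pullback f) (ComplexShape.up ℤ) 0 ((Scheme.Modules.pushforward f).obj N)
  have e4 := HomologicalComplex.single_map_f_self (c := ComplexShape.up ℤ) (0 : ℤ)
    ((Scheme.Modules.pullbackPushforwardAdjunction f).counit.app N)
  refine (congrArg (fun a => a ≫ (Scheme.Modules.pullbackPushforwardAdjunction f).counit.app _)
    (congrArg (Scheme.Modules.pullback f).map e1)).trans ?_
  refine Eq.trans ?_ (congrArg₂ (fun a b => a ≫ b) e2.symm e4.symm)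
  exact aux₅ _ _ (Scheme.Modules.pullbackPushforwardAdjunction f) _ _ _

omit f in
lemma aux₆ {A B : Type*} [Category A] [Category B] (F : A ⥤ B) (G : B ⥤ A) (adj : F ⊣ G) {T : A} {Z : B}
    (x : T ⟶ G.obj Z) : adj.homEquiv _ _ (F.map x ≫ adj.counit.app Z) = x := by
  simp [Adjunction.homEquiv_unit]

/-- The adjoint of `Lf^* (f_* N) ⟶ N`. -/
theorem cM_counit [DCoh.HasLpull f] [DCoh.HasRpush f] (N : X.Modules) :
    (cM f).app ((Scheme.Modules.pushforward f).obj N) ≫
      (Cont.S X).map ((Scheme.Modules.pullbackPushforwardAdjunction f).counit.app N) =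
    (DCoh.Lpull f).map (DerivedCategory.Q.map ((sP f).inv.app N) ≫
      (rpushUnitQ f).app ((CochainComplex.singleFunctor X.Modules 0).obj N)) ≫
      (lpullAdj f).counit.app (DerivedCategory.Q.obj ((CochainComplex.singleFunctor X.Modules 0).obj N)) := by
  have h1 := Groth.Agent.PerfB.BCPush.counit_fac f ((CochainComplex.singleFunctor X.Modules 0).obj N)
  have h2 := (lpullCounitQ f).naturality ((sP f).inv.app N)
  have h3 := (DerivedCategory.Q.map_comp _ _).symm.trans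
    ((congrArg DerivedCategory.Q.map (counit_single f N)).trans (DerivedCategory.Q.map_comp _ _))
  rw [Functor.map_comp, Category.assoc]
  refine Eq.trans ?_ (congrArg (fun t => (DCoh.Lpull f).map (DerivedCategory.Q.map ((sP f).inv.app N)) ≫ t) h1.symm)
  refine Eq.trans ?_ ((Category.assoc _ _ _).symm.trans ((congrArg (fun t => t ≫ _) h2).trans (Category.assoc _ _ _))).symm
  refine Eq.trans ?_ (congrArg (fun t => (lpullCounitQ f).app _ ≫ t) h3.symm)
  exact Category.assoc _ _ _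

/-- The adjoint of `mM` is an isomorphism. -/
theorem isIso_homEquiv_mM [IsAffineHom f] [DCoh.HasLpull f] [DCoh.HasRpush f]
    (hO : Coh.IsQCoh ((Scheme.Modules.pullback f).obj (Coh.structureModule Y))) :
    IsIso ((lpullAdj f).homEquiv _ _ (mM f)) := by
  have h1 := cM_counit f ((Scheme.Modules.pullback f).obj (Coh.structureModule Y))
  have h2 : mM f = ((cM f).app (Am f (Coh.structureModule Y)) ≫
      (Cont.S X).map (ep f (Coh.structureModule Y))) ≫ (inv ((cM f).app (Coh.structureModule Y)) ≫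
        (DCoh.Lpull f).map (DualX.unitIso Y).hom ≫ η (DCoh.Lpull f)) := by
    simp only [mM, wM, Category.assoc]
  rw [h2, Adjunction.homEquiv_naturality_right]
  have h3 : IsIso ((rpushUnitQ f).app ((CochainComplex.singleFunctor X.Modules 0).obj
      ((Scheme.Modules.pullback f).obj (Coh.structureModule Y)))) :=
    Groth.Agent.PerfC.AffPushD.isIso_rpushUnitQ f _ (Groth.Agent.Dual.H360.ProjAff.isQCoh_single _ hO)
  have h4 : IsIso ((lpullAdj f).homEquiv _ _ ((cM f).app (Am f (Coh.structureModule Y)) ≫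
      (Cont.S X).map (ep f (Coh.structureModule Y)))) := by
    refine (congrArg (fun t => IsIso ((lpullAdj f).homEquiv _ _ t)) h1).mpr ?_
    refine (congrArg (fun t => IsIso t) (aux₆ (DCoh.Lpull f) (DCoh.Rpush f) (lpullAdj f) _)).mpr ?_
    infer_instance
  have i1 : IsIso (inv ((cM f).app (Coh.structureModule Y))) := inferInstance
  have i2 : IsIso ((DCoh.Lpull f).map (DualX.unitIso Y).hom) := inferInstance
  have i3 : IsIso (η (DCoh.Lpull f)) := inferInstance
  have h5 : IsIso (inv ((cM f).app (Coh.structureModule Y)) ≫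
        (DCoh.Lpull f).map (DualX.unitIso Y).hom ≫ η (DCoh.Lpull f)) :=
    IsIso.comp_isIso' i1 (IsIso.comp_isIso' i2 i3)
  have h6 : IsIso ((DCoh.Rpush f).map (inv ((cM f).app (Coh.structureModule Y)) ≫
        (DCoh.Lpull f).map (DualX.unitIso Y).hom ≫ η (DCoh.Lpull f))) := inferInstance
  exact IsIso.comp_isIso' h4 h6

end Mf

end K237.Theta
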